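import Cfsg.Agent.Omega.EH3.Irr.Lem
import Cfsg.Agent.Omega.EH3.Clif.Fld

/-!
# THEOREM IRR of EH3: `End_L(U)` is `F_2` or `F_4` (helper616, for helper807)
-/

set_option autoImplicit false

namespace Cfsg.Agent.Omega.EH3.Irr

variable {H V : Type*} [Group H] [AddCommGroup V] [Module (ZMod 2) V]
  {ρ : H →* (V ≃ₗ[ZMod 2] V)} {b : LinearMap.BilinForm (ZMod 2) V} {q : V → ZMod 2}
  {a : V} {D : Submodule (ZMod 2) V} {X : Subgroup H} {w : ℕ} {L : Subgroup H} {U : Submodule (ZMod 2) V}

namespace EndU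

/-- the endomorphisms of `U` commuting with `L` -/
def A (ρ : H →* (V ≃ₗ[ZMod 2] V)) (L : Subgroup H) (U : Submodule (ZMod 2) V) (hU : Inv ρ L U) :
    Subring (Module.End (ZMod 2) U) where
  carrier := {f | ∀ l, ∀ hl : l ∈ L, ∀ u : U, (f ⟨ρ l u, hU l hl u u.2⟩ : V) = ρ l (f u)}
  mul_mem' := fun {f g} hf hg l hl u => by
    show (f (g ⟨ρ l u, hU l hl u u.2⟩) : V) = ρ l (f (g u))
    rw [← hf l hl (g u)]
    exact congrArg (fun x : U => (f x : V)) (Subtype.ext (hg l hl u))
  one_mem' := fun l _ u => rfl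
  add_mem' := fun {f g} hf hg l hl u => by
    show (f ⟨ρ l u, hU l hl u u.2⟩ : V) + g ⟨ρ l u, hU l hl u u.2⟩ = ρ l (f u + g u)
    rw [hf l hl, hg l hl, map_add]
  zero_mem' := fun l _ u => by
    show (0 : V) = ρ l 0
    rw [map_zero]
  neg_mem' := fun {f} hf l hl u => by
    show -(f ⟨ρ l u, hU l hl u u.2⟩ : V) = ρ l (-(f u))
    rw [hf l hl, map_neg]

theorem A_ext {hU : Inv ρ L U} {x y : A ρ L U hU}
    (h : ∀ u : U, ((x : Module.End (ZMod 2) U) u : V) = (y : Module.End (ZMod 2) U) u) : x = y :=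
  Subtype.ext (LinearMap.ext fun u => Subtype.ext (h u))

/-- the restriction of an `L`-map -/
def res (hU : Inv ρ L U) {f : V →ₗ[ZMod 2] V} (hf : LMap ρ L U f) (hf' : ∀ u ∈ U, f u ∈ U) :
    A ρ L U hU :=
  ⟨f.restrict hf', fun l hl u => hf l hl u u.2⟩

theorem res_apply (hU : Inv ρ L U) {f : V →ₗ[ZMod 2] V} (hf : LMap ρ L U f) (hf' : ∀ u ∈ U, f u ∈ U)
    (u : U) : ((res hU hf hf' : Module.End (ZMod 2) U) u : V) = f u := rfl

/-- every element is the restriction of an `L`-map -/
theorem exists_ext (hU : Inv ρ L U) (x : A ρ L U hU) : ∃ f : V →ₗ[ZMod 2] V, LMap ρ L U f ∧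
    (∀ u ∈ U, f u ∈ U) ∧ ∀ u : U, f u = (x : Module.End (ZMod 2) U) u := by
  obtain ⟨f, hf⟩ := LinearMap.exists_extend (U.subtype ∘ₗ (x : Module.End (ZMod 2) U))
  have hfu : ∀ u : U, f u = (x : Module.End (ZMod 2) U) u := fun u => LinearMap.congr_fun hf u
  refine ⟨f, ?_, ?_, hfu⟩
  · intro l hl u hu
    have h1 := hfu ⟨ρ l u, hU l hl u hu⟩
    have h2 := hfu ⟨u, hu⟩
    have h3 := x.2 l hl ⟨u, hu⟩
    show f (ρ l u) = ρ l (f u)
    rw [show f (ρ l u) = _ from h1, show f u = _ from h2]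
    exact h3
  · intro u hu
    have h2 := hfu ⟨u, hu⟩
    rw [show f u = _ from h2]
    exact Subtype.coe_prop _

theorem add_self (S : Base ρ b q a D X w L U) (x : A ρ L U S.simple.inv) : x + x = 0 := by
  apply A_ext
  intro u
  exact S.cfg.add_self _

theorem injective (S : Base ρ b q a D X w L U) {x : A ρ L U S.simple.inv} (h0 : x ≠ 0) {u : U}
    (hu : (x : Module.End (ZMod 2) U) u = 0) : u = 0 := by
  by_contra h
  apply h0
  obtain ⟨f, hf, _, hfu⟩ := exists_ext S.simple.inv x
  have h1 := S.simple.zero_of_zero hf u.2 (fun h2 => h (Subtype.ext h2)) (by rw [hfu, hu]; rfl)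
  apply A_ext
  intro v
  rw [← hfu]
  exact h1 v v.2

/-- `a` as an element of `U` -/
def ua (S : Base ρ b q a D X w L U) : U := ⟨a, S.a_mem⟩

theorem ua_ne (S : Base ρ b q a D X w L U) : ua S ≠ 0 := fun h => S.cfg.a_ne (congrArg Subtype.val h)

theorem isDomain (S : Base ρ b q a D X w L U) : IsDomain (A ρ L U S.simple.inv) := by
  have : Nontrivial (A ρ L U S.simple.inv) := ⟨⟨0, 1, fun h => by
    have h1 : (0 : Module.End (ZMod 2) U) (ua S) = (1 : Module.End (ZMod 2) U) (ua S) :=
      congrArg (fun x : A ρ L U S.simple.inv => (x : Module.End (ZMod 2) U) (ua S)) h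
    exact ua_ne S h1.symm⟩⟩
  have : NoZeroDivisors (A ρ L U S.simple.inv) := ⟨fun {x y} h => by
    by_contra hcon
    push Not at hcon
    obtain ⟨hx, hy⟩ := hcon
    apply ua_ne S
    have h1 : (x : Module.End (ZMod 2) U) ((y : Module.End (ZMod 2) U) (ua S)) = 0 :=
      congrArg (fun x : A ρ L U S.simple.inv => (x : Module.End (ZMod 2) U) (ua S)) h
    exact injective S hy (injective S hx h1)⟩
  exact NoZeroDivisors.to_isDomain _

theorem finite_A (S : Base ρ b q a D X w L U) : Finite (A ρ L U S.simple.inv) := by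
  have := S.cfg.finite_V
  have : Finite (U →ₗ[ZMod 2] U) := Finite.of_injective (fun g => (g : U → U)) DFunLike.coe_injective
  exact Subtype.finite

/-- the restriction of `x ∈ X` -/
def rx (S : Base ρ b q a D X w L U) (x : X) : U →ₗ[ZMod 2] U :=
  (ρ (x : H) : V →ₗ[ZMod 2] V).restrict (S.X_inv x x.2)

theorem rx_apply (S : Base ρ b q a D X w L U) (x : X) (u : U) : (rx S x u : V) = ρ (x : H) u := rfl

theorem rx_rx (S : Base ρ b q a D X w L U) (x : X) (u : U) : rx S x (rx S x u) = u :=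
  Subtype.ext (S.xx x.2 u)

theorem rx_a (S : Base ρ b q a D X w L U) (x : X) : rx S x (ua S) = ua S :=
  Subtype.ext (S.cfg.X_a x.2)

theorem conj_mem (S : Base ρ b q a D X w L U) (x : X) {f : Module.End (ZMod 2) U}
    (hf : f ∈ A ρ L U S.simple.inv) :
    ((rx S x) ∘ₗ f ∘ₗ (rx S x) : Module.End (ZMod 2) U) ∈ A ρ L U S.simple.inv := by
  intro l hl u
  show ρ (x : H) (f (rx S x ⟨ρ l u, S.simple.inv l hl u u.2⟩)) = ρ l (ρ (x : H) (f (rx S x u)))
  have h1 : (x : H) * l * x ∈ L := by
    have := S.nor.conj_mem l hl x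
    rwa [S.cfg.X_inv x.2] at this
  have h2 : rx S x ⟨ρ l u, S.simple.inv l hl u u.2⟩ =
      ⟨ρ ((x : H) * l * x) (rx S x u), S.simple.inv _ h1 _ (rx S x u).2⟩ := by
    apply Subtype.ext
    show ρ (x : H) (ρ l u) = ρ ((x : H) * l * x) (ρ (x : H) u)
    rw [← S.cfg.ρ_mul, ← S.cfg.ρ_mul, mul_assoc, S.cfg.X_sq x x.2, mul_one]
  rw [h2, hf _ h1, ← S.cfg.ρ_mul, ← S.cfg.ρ_mul]
  congr 2
  rw [← mul_assoc, ← mul_assoc, S.cfg.X_sq x x.2, one_mul]

/-- conjugation by `x` on the commutant -/
def sg (S : Base ρ b q a D X w L U) (x : X) : A ρ L U S.simple.inv ≃+* A ρ L U S.simple.inv where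
  toFun f := ⟨_, conj_mem S x f.2⟩
  invFun f := ⟨_, conj_mem S x f.2⟩
  left_inv f := by
    apply Subtype.ext
    apply LinearMap.ext
    intro v
    show rx S x (rx S x ((f : Module.End (ZMod 2) U) (rx S x (rx S x v)))) = _
    rw [rx_rx, rx_rx]
  right_inv f := by
    apply Subtype.ext
    apply LinearMap.ext
    intro v
    show rx S x (rx S x ((f : Module.End (ZMod 2) U) (rx S x (rx S x v)))) = _
    rw [rx_rx, rx_rx]
  map_mul' f g := by
    apply Subtype.ext
    apply LinearMap.ext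
    intro v
    show rx S x ((f : Module.End (ZMod 2) U) ((g : Module.End (ZMod 2) U) (rx S x v))) =
      rx S x ((f : Module.End (ZMod 2) U) (rx S x (rx S x ((g : Module.End (ZMod 2) U) (rx S x v)))))
    rw [rx_rx]
  map_add' f g := by
    apply Subtype.ext
    apply LinearMap.ext
    intro v
    show rx S x ((f : Module.End (ZMod 2) U) (rx S x v) + (g : Module.End (ZMod 2) U) (rx S x v)) = _
    rw [map_add]
    rfl

theorem sg_apply (S : Base ρ b q a D X w L U) (x : X) (f : A ρ L U S.simple.inv) (v : U) :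
    (sg S x f : Module.End (ZMod 2) U) v = rx S x ((f : Module.End (ZMod 2) U) (rx S x v)) := rfl

theorem sg_sg (S : Base ρ b q a D X w L U) (x : X) (f : A ρ L U S.simple.inv) :
    sg S x (sg S x f) = f := (sg S x).left_inv f

/-- the elements commuting with `X` are `0` and `1` -/
theorem fix_eq (S : Base ρ b q a D X w L U) {f : A ρ L U S.simple.inv}
    (h : ∀ x : X, sg S x f = f) : f = 0 ∨ f = 1 := by
  obtain ⟨g, hg, _, hgu⟩ := exists_ext S.simple.inv f
  have h1 : ∀ x ∈ X, ρ x (g a) = g a := by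
    intro x hx
    have h2 : ((sg S ⟨x, hx⟩ f : Module.End (ZMod 2) U) (ua S) : V) =
        (f : Module.End (ZMod 2) U) (ua S) := by
      rw [h ⟨x, hx⟩]
    rw [sg_apply, rx_a] at h2
    rw [show g a = _ from hgu (ua S)]
    exact h2
  rcases S.zero_or_id hg h1 with h2 | h2
  · left
    apply A_ext
    intro u
    rw [← hgu]
    exact h2 u u.2
  · right
    apply A_ext
    intro u
    rw [← hgu]
    exact h2 u u.2

theorem card_le (S : Base ρ b q a D X w L U) : Nat.card (A ρ L U S.simple.inv) ≤ 4 := by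
  classical
  have := finite_A S
  have := isDomain S
  have : Fintype (A ρ L U S.simple.inv) := Fintype.ofFinite _
  let _ := Fintype.divisionRingOfIsDomain (A ρ L U S.simple.inv)
  have h1 := Clif.card_le_sq (D := A ρ L U S.simple.inv) (add_self S) (sg S) (sg_sg S)
  have h2 : Nat.card {f : A ρ L U S.simple.inv // ∀ x : X, sg S x f = f} ≤ 2 := by
    have hinj : Function.Injective
        (fun f : {f : A ρ L U S.simple.inv // ∀ x : X, sg S x f = f} =>
          if (f : A ρ L U S.simple.inv) = 0 then (0 : ZMod 2) else 1) := by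
      rintro ⟨f, hf⟩ ⟨g, hg⟩ h
      apply Subtype.ext
      show f = g
      by_cases h3 : f = 0 <;> by_cases h4 : g = 0
      · rw [h3, h4]
      · simp [h3, h4] at h
      · simp [h3, h4] at h
      · rw [(fix_eq S hf).resolve_left h3, (fix_eq S hg).resolve_left h4]
    have := Nat.card_le_card_of_injective _ hinj
    rwa [Nat.card_zmod] at this
  calc Nat.card (A ρ L U S.simple.inv) ≤ _ := h1
    _ ≤ 2 ^ 2 := Nat.pow_le_pow_left h2 2
    _ = 4 := by norm_num

end EndU

open EndU in
/-- **`End_L(U)` is `F_2` or `F_4`.** -/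
theorem Base.end_cases (S : Base ρ b q a D X w L U) :
    E2 ρ L U ∨ ∃ ω : V →ₗ[ZMod 2] V, E4 ρ L U ω := by
  classical
  by_cases hall : E2 ρ L U
  · exact Or.inl hall
  right
  unfold E2 at hall
  push Not at hall
  obtain ⟨ζ, hζ, hζU, hζ0, hζ1⟩ := hall
  have hfin := finite_A S
  have hdom := isDomain S
  let z : A ρ L U S.simple.inv := res S.simple.inv hζ hζU
  have hz : ∀ u : U, ((z : Module.End (ZMod 2) U) u : V) = ζ u := fun u => rfl
  have hz0 : z ≠ 0 := by
    intro h
    obtain ⟨u, hu, h1⟩ := hζ0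
    apply h1
    rw [← hz ⟨u, hu⟩, h]
    rfl
  have hz1 : z ≠ 1 := by
    intro h
    obtain ⟨u, hu, h1⟩ := hζ1
    apply h1
    rw [← hz ⟨u, hu⟩, h]
    rfl
  have h2 : ∀ x : A ρ L U S.simple.inv, x + x = 0 := add_self S
  have eq_of : ∀ {x y : A ρ L U S.simple.inv}, x + y = 0 → x = y := by
    intro x y h
    have : x + y + y = 0 + y := by rw [h]
    rwa [add_assoc, h2, add_zero, zero_add] at this
  have hz2 : z + 1 ≠ 0 := fun h => hz1 (eq_of h)
  have hz3 : z + 1 ≠ 1 := fun h => hz0 (by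
    have := add_right_cancel (h.trans (zero_add 1).symm)
    exact this)
  have hz4 : z + 1 ≠ z := fun h => one_ne_zero (add_left_cancel (h.trans (add_zero z).symm))
  -- the four elements
  have hfour : ∀ x : A ρ L U S.simple.inv, x = 0 ∨ x = 1 ∨ x = z ∨ x = z + 1 := by
    intro x
    by_contra hcon
    push Not at hcon
    obtain ⟨hx0, hx1, hx2, hx3⟩ := hcon
    have : Fintype (A ρ L U S.simple.inv) := Fintype.ofFinite _
    have hc : ({0, 1, z, z + 1, x} : Finset (A ρ L U S.simple.inv)).card ≤ 4 := by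
      calc _ ≤ Fintype.card (A ρ L U S.simple.inv) := Finset.card_le_univ _
        _ = Nat.card (A ρ L U S.simple.inv) := Nat.card_eq_fintype_card.symm
        _ ≤ 4 := card_le S
    have hc2 : ({0, 1, z, z + 1, x} : Finset (A ρ L U S.simple.inv)).card = 5 := by
      rw [Finset.card_insert_of_notMem, Finset.card_insert_of_notMem, Finset.card_insert_of_notMem,
        Finset.card_insert_of_notMem, Finset.card_singleton]
      · rw [Finset.mem_singleton]; exact fun h => hx3 h.symm
      · simp only [Finset.mem_insert, Finset.mem_singleton, not_or]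
        exact ⟨fun h => hz4 h.symm, fun h => hx2 h.symm⟩
      · simp only [Finset.mem_insert, Finset.mem_singleton, not_or]
        exact ⟨fun h => hz1 h.symm, fun h => hz3 h.symm, fun h => hx1 h.symm⟩
      · simp only [Finset.mem_insert, Finset.mem_singleton, not_or]
        exact ⟨fun h => one_ne_zero h.symm, fun h => hz0 h.symm, fun h => hz2 h.symm,
          fun h => hx0 h.symm⟩
    omega
  have hzz : z * z = z + 1 := by
    rcases hfour (z * z) with h | h | h | h
    · exact absurd (mul_self_eq_zero.1 h) hz0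
    · exfalso
      apply hz1
      have h3 : (z + 1) * (z + 1) = 0 := by
        have : (z + 1) * (z + 1) = z * z + (z + z) + 1 := by noncomm_ring
        rw [this, h, h2, add_zero, h2]
      exact eq_of (mul_self_eq_zero.1 h3)
    · exfalso
      have h3 : z * (z + 1) = 0 := by rw [mul_add, mul_one, h, h2]
      rcases mul_eq_zero.1 h3 with h4 | h4
      · exact hz0 h4
      · exact hz1 (eq_of h4)
    · exact h
  refine ⟨ζ, hζ, hζU, ?_, ?_⟩
  · intro u hu
    exact congrArg (fun x : A ρ L U S.simple.inv => ((x : Module.End (ZMod 2) U) ⟨u, hu⟩ : V)) hzz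
  · intro f hf hfU
    have key : ∀ y : A ρ L U S.simple.inv, res S.simple.inv hf hfU = y →
        ∀ u (hu : u ∈ U), f u = (y : Module.End (ZMod 2) U) ⟨u, hu⟩ := by
      intro y hy u hu
      rw [← hy]
      rfl
    rcases hfour (res S.simple.inv hf hfU) with h | h | h | h
    · exact Or.inl fun u hu => key _ h u hu
    · exact Or.inr (Or.inl fun u hu => key _ h u hu)
    · exact Or.inr (Or.inr (Or.inl fun u hu => key _ h u hu))
    · exact Or.inr (Or.inr (Or.inr fun u hu => key _ h u hu))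

end Cfsg.Agent.Omega.EH3.Irr
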