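import Cfsg.Agent.Omega.EH3.Irr.Lem

/-!
# THEOREM IRR of EH3: `V = U ⊕ g U`, `|End_L(U)| = 4` is impossible (helper737)

`E = {0, 1, ω, ω + 1}`; `X_0` = the stabiliser of `ω a` in `X`, of index 2; `C_V(X_0) = E a`;
`x (g u) = g (x u) + d_x (x u)` for `x ∈ X_0`, `d_x ∈ E`; `T := {u ∈ U : g u, g (ω u) ⟂ a}` has index at most 4 in `U`;
`[T, X_0] = 0` and `d_x T ≤ E a`; some `d_x` is not zero, so `|U| ≤ 16`.
-/

set_option autoImplicit false

namespace Cfsg.Agent.Omega.EH3.Irr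

open Module

variable {H V : Type*} [Group H] [AddCommGroup V] [Module (ZMod 2) V]
  {ρ : H →* (V ≃ₗ[ZMod 2] V)} {b : LinearMap.BilinForm (ZMod 2) V} {q : V → ZMod 2}
  {a : V} {D : Submodule (ZMod 2) V} {X : Subgroup H} {w : ℕ} {L : Subgroup H} {U : Submodule (ZMod 2) V}
  {g ω : V →ₗ[ZMod 2] V}

namespace Four

/-- `e ∈ {0, 1, ω, ω + 1}` on `U` -/
def InE (U : Submodule (ZMod 2) V) (ω e : V →ₗ[ZMod 2] V) : Prop :=
  (∀ u ∈ U, e u = 0) ∨ (∀ u ∈ U, e u = u) ∨ (∀ u ∈ U, e u = ω u) ∨ (∀ u ∈ U, e u = ω u + u)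

theorem wa_ne_zero (S : Base ρ b q a D X w L U) (h : E4 ρ L U ω) : ω a ≠ 0 := by
  intro h0
  have h1 := h.sq a S.a_mem
  rw [h0, map_zero, zero_add] at h1
  exact S.cfg.a_ne h1.symm

theorem wa_ne_a (S : Base ρ b q a D X w L U) (h : E4 ρ L U ω) : ω a ≠ a := by
  intro h0
  have h1 := h.sq a S.a_mem
  rw [h0, h0, S.cfg.add_self] at h1
  exact S.cfg.a_ne h1

/-- `x (ω a) = ω a` or `ω a + a` -/
theorem x_wa (S : Base ρ b q a D X w L U) (h : E4 ρ L U ω) {x : H} (hx : x ∈ X) :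
    ρ x (ω a) = ω a ∨ ρ x (ω a) = ω a + a := by
  have hm := S.cj_map h.map hx
  have hU : ∀ u ∈ U, cj ρ x ω u ∈ U := fun u hu => by
    rw [cj_apply]
    exact S.X_inv x hx _ (h.mem _ (S.X_inv _ (X.inv_mem hx) u hu))
  have e := S.cj_a hx ω
  rcases h.all _ hm hU with h1 | h1 | h1 | h1
  · exfalso
    have h2 := h1 a S.a_mem
    rw [e] at h2
    exact wa_ne_zero S h (S.cfg.ρ_inj x (by rw [h2, map_zero]))
  · exfalso
    have h2 := h1 a S.a_mem
    rw [e] at h2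
    exact wa_ne_a S h (S.cfg.ρ_inj x (by rw [h2, S.cfg.X_a hx]))
  · left; rw [← e, h1 a S.a_mem]
  · right; rw [← e, h1 a S.a_mem]

/-- `X_0` commutes with `ω` on `U` -/
theorem comm (S : Base ρ b q a D X w L U) (h : E4 ρ L U ω) {x : H} (hx : x ∈ X)
    (h0 : ρ x (ω a) = ω a) : ∀ u ∈ U, ω (ρ x u) = ρ x (ω u) := by
  have h1 := S.eq_of_a (S.cj_map h.map hx) h.map (by rw [S.cj_a hx, h0])
  intro u hu
  have h2 := h1 (ρ x u) (S.X_inv x hx u hu)
  rw [cj_apply, S.cfg.ρ_inv_apply] at h2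
  exact h2.symm

theorem exists_x1 (S : Base ρ b q a D X w L U) (h : E4 ρ L U ω) :
    ∃ x ∈ X, ρ x (ω a) = ω a + a := by
  by_contra hcon
  push Not at hcon
  rcases S.cfg.fix_X (v := ω a) (fun x hx => (x_wa S h hx).resolve_right (hcon x hx)) with h1 | h1
  · exact wa_ne_zero S h h1
  · exact wa_ne_a S h h1

/-- `C_V(X_0) = {0, a, ω a, ω a + a}` -/
theorem fix0 (S : Base ρ b q a D X w L U) (h : E4 ρ L U ω) {v : V}
    (hv : ∀ x ∈ X, ρ x (ω a) = ω a → ρ x v = v) :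
    v = 0 ∨ v = a ∨ v = ω a ∨ v = ω a + a := by
  obtain ⟨x₁, hx₁, h1⟩ := exists_x1 S h
  have C := S.cfg
  have key : ∀ v : V, (∀ x ∈ X, ρ x (ω a) = ω a → ρ x v = v) → ρ x₁ v = v → v = 0 ∨ v = a := by
    intro v hv h2
    apply C.fix_X
    intro x hx
    rcases x_wa S h hx with h3 | h3
    · exact hv x hx h3
    · have h4 : ρ (x * x₁) (ω a) = ω a := by
        rw [C.ρ_mul, h1, map_add, h3, C.X_a hx, add_assoc, C.add_self, add_zero]
      have h5 := hv _ (X.mul_mem hx hx₁) h4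
      rw [C.ρ_mul, h2] at h5
      exact h5
  have h2 : ρ x₁ v + v = 0 ∨ ρ x₁ v + v = a := by
    apply key
    · intro x hx h3
      rw [map_add, ← C.ρ_mul, C.X_comm hx hx₁, C.ρ_mul, hv x hx h3]
    · exact C.X_fix_delta hx₁ v
  rcases h2 with h2 | h2
  · rcases key v hv (C.add_eq_zero.1 h2) with h3 | h3
    · exact Or.inl h3
    · exact Or.inr (Or.inl h3)
  · have h3 : v + ω a = 0 ∨ v + ω a = a := by
      apply key
      · intro x hx h4
        rw [map_add, hv x hx h4, h4]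
      · have h4 : ρ x₁ v = a + v := by rw [← h2, C.add_add_self]
        rw [map_add, h1, h4]
        have : a + v + (ω a + a) = v + ω a + (a + a) := by abel
        rw [this, C.add_self, add_zero]
    rcases h3 with h3 | h3
    · exact Or.inr (Or.inr (Or.inl (C.add_eq_zero.1 h3)))
    · refine Or.inr (Or.inr (Or.inr ?_))
      have h4 := C.add_add_self v (ω a)
      rw [h3] at h4
      rw [← h4, add_comm]

theorem fix0_mem (S : Base ρ b q a D X w L U) (h : E4 ρ L U ω) {v : V}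
    (hv : ∀ x ∈ X, ρ x (ω a) = ω a → ρ x v = v) : v ∈ U := by
  rcases fix0 S h hv with h1 | h1 | h1 | h1
  · rw [h1]; exact U.zero_mem
  · rw [h1]; exact S.a_mem
  · rw [h1]; exact h.mem a S.a_mem
  · rw [h1]; exact U.add_mem (h.mem a S.a_mem) S.a_mem

section InE

variable {e : V →ₗ[ZMod 2] V}

theorem InE.mem (S : Base ρ b q a D X w L U) (h : E4 ρ L U ω) (he : InE U ω e) {u : V} (hu : u ∈ U) :
    e u ∈ U := by
  have := S.a_mem
  rcases he with h1 | h1 | h1 | h1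
  · rw [h1 u hu]; exact U.zero_mem
  · rw [h1 u hu]; exact hu
  · rw [h1 u hu]; exact h.mem u hu
  · rw [h1 u hu]; exact U.add_mem (h.mem u hu) hu

theorem InE.commX (S : Base ρ b q a D X w L U) (h : E4 ρ L U ω) (he : InE U ω e) {x : H} (hx : x ∈ X)
    (h0 : ρ x (ω a) = ω a) {u : V} (hu : u ∈ U) : e (ρ x u) = ρ x (e u) := by
  have hxu := S.X_inv x hx u hu
  have hc := comm S h hx h0 u hu
  rcases he with h1 | h1 | h1 | h1
  · rw [h1 u hu, h1 _ hxu, map_zero]
  · rw [h1 u hu, h1 _ hxu]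
  · rw [h1 u hu, h1 _ hxu, hc]
  · rw [h1 u hu, h1 _ hxu, hc, map_add]

theorem InE.commω (h : E4 ρ L U ω) (he : InE U ω e) {u : V} (hu : u ∈ U) : e (ω u) = ω (e u) := by
  have hxu := h.mem u hu
  rcases he with h1 | h1 | h1 | h1
  · rw [h1 u hu, h1 _ hxu, map_zero]
  · rw [h1 u hu, h1 _ hxu]
  · rw [h1 u hu, h1 _ hxu]
  · rw [h1 u hu, h1 _ hxu, map_add]

theorem ω_inj (h : E4 ρ L U ω) {u : V} (hu : u ∈ U) (h0 : ω u = 0) : u = 0 := by
  have h1 := h.sq u hu
  rw [h0, map_zero, zero_add] at h1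
  exact h1.symm

theorem InE.inj (S : Base ρ b q a D X w L U) (h : E4 ρ L U ω) (he : InE U ω e)
    (hne : ∃ u ∈ U, e u ≠ 0) {u : V} (hu : u ∈ U) (h0 : e u = 0) : u = 0 := by
  obtain ⟨u₀, hu₀, hne⟩ := hne
  rcases he with h1 | h1 | h1 | h1
  · exact absurd (h1 u₀ hu₀) hne
  · rw [← h1 u hu]; exact h0
  · exact ω_inj h hu (by rw [← h1 u hu]; exact h0)
  · rw [h1 u hu, S.cfg.add_eq_zero] at h0
    have h2 := h.sq u hu
    rw [h0, h0, S.cfg.add_self] at h2
    exact h2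

theorem InE.id_of_sq (S : Base ρ b q a D X w L U) (h : E4 ρ L U ω) (he : InE U ω e)
    (hsq : e (e a) = a) : ∀ u ∈ U, e u = u := by
  have ha := S.a_mem
  have hwa := h.mem a ha
  rcases he with h1 | h1 | h1 | h1
  · exfalso
    rw [h1 a ha, map_zero] at hsq
    exact S.cfg.a_ne hsq.symm
  · exact h1
  · exfalso
    rw [h1 a ha, h1 _ hwa, h.sq a ha, add_eq_right] at hsq
    exact wa_ne_zero S h hsq
  · exfalso
    have h2 := h1 a ha
    rw [h2, h1 _ (U.add_mem hwa ha), map_add, h.sq a ha] at hsq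
    have h3 : ω a + a + ω a + (ω a + a) = ω a + ((ω a + ω a) + (a + a)) := by abel
    rw [h3, S.cfg.add_self, S.cfg.add_self, add_zero, add_zero] at hsq
    exact wa_ne_a S h hsq

end InE

/-- `x (g u) = g (x u) + d_x (x u)` -/
theorem exists_d (S : Two ρ b q a D X w L U g) (h : E4 ρ L U ω) {x : H} (hx : x ∈ X)
    (h0 : ρ x (ω a) = ω a) :
    ∃ d : V →ₗ[ZMod 2] V, InE U ω d ∧ ∀ u ∈ U, ρ x (g u) = d (ρ x u) + g (ρ x u) := by
  have C := S.cfg
  obtain ⟨d, e, hd, he, hdU, heU, hde⟩ := S.exists_dec (S.toBase.cj_map S.g_map hx)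
  have hdE : InE U ω d := h.all d hd hdU
  have heE : InE U ω e := h.all e he heU
  have h1 : ∀ u ∈ U, ρ x (g u) = d (ρ x u) + g (e (ρ x u)) := by
    intro u hu
    rw [← hde, cj_apply, C.ρ_inv_apply]
  have ha := S.a_mem
  have h2 : e (e a) = a := by
    have h3 := h1 a ha
    rw [C.X_a hx] at h3
    have h4 : ρ x (ρ x (g a)) = g a := S.toBase.xx hx _
    rw [h3, map_add, h1 _ (heU a ha), ← heE.commX S.toBase h hx h0 ha, C.X_a hx] at h4
    have h5 : (ρ x (d a) + d (e a)) + g (e (e a)) = 0 + g a := by rw [zero_add, ← h4]; abel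
    exact (S.uniq (U.add_mem (S.X_inv x hx _ (hdU a ha)) (hdU _ (heU a ha))) (heU _ (heU a ha)) U.zero_mem
      ha h5).2
  have h3 := heE.id_of_sq S.toBase h h2
  refine ⟨d, hdE, fun u hu => ?_⟩
  rw [h1 u hu, h3 _ (S.X_inv x hx u hu)]

/-- `[g u, x, y]` -/
theorem comm_two (S : Two ρ b q a D X w L U g) (h : E4 ρ L U ω) {x y : H} (hx : x ∈ X) (hy : y ∈ X)
    (h0y : ρ y (ω a) = ω a) {d e : V →ₗ[ZMod 2] V} (hd : InE U ω d)
    (hde : ∀ u ∈ U, ρ x (g u) = d (ρ x u) + g (ρ x u))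
    (hee : ∀ u ∈ U, ρ y (g u) = e (ρ y u) + g (ρ y u)) {u : V} (hu : u ∈ U) :
    ρ y (ρ x (g u) + g u) + (ρ x (g u) + g u) =
      (e (ρ y (ρ x u + u)) + d (ρ y (ρ x u) + ρ x u)) + g (ρ y (ρ x u + u) + (ρ x u + u)) := by
  have C := S.cfg
  have hxu := S.X_inv x hx u hu
  have hyu := S.X_inv y hy u hu
  have hyxu := S.X_inv y hy _ hxu
  rw [hde u hu]
  have h1 : ρ y (d (ρ x u) + g (ρ x u) + g u) =
      d (ρ y (ρ x u)) + (e (ρ y (ρ x u)) + g (ρ y (ρ x u))) + (e (ρ y u) + g (ρ y u)) := by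
    rw [map_add, map_add, ← hd.commX S.toBase h hy h0y hxu, hee _ hxu, hee _ hu]
  rw [h1]
  simp only [map_add]
  abel

/-- the commutator of `g u`, `g u ⟂ a`, with `x`, `y` -/
theorem two_step (C : Cfg ρ b q a D X w) {x y : H} (hx : x ∈ X) (hy : y ∈ X) {v : V} (hv : b a v = 0) :
    ρ y (ρ x v + v) + (ρ x v + v) = 0 ∨ ρ y (ρ x v + v) + (ρ x v + v) = a := by
  rcases C.X_D y hy _ (C.X_perp x hx v hv) with h | h
  · left; rw [h, C.add_self]
  · right
    rw [h, add_right_comm, C.add_self, zero_add]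

/-- `[u, x] = 0` and `d_x u ∈ C_V(X_0)` for `u ∈ T` -/
theorem main (S : Two ρ b q a D X w L U g) (h : E4 ρ L U ω) {x : H} (hx : x ∈ X)
    (h0x : ρ x (ω a) = ω a) {d : V →ₗ[ZMod 2] V} (hd : InE U ω d)
    (hde : ∀ u ∈ U, ρ x (g u) = d (ρ x u) + g (ρ x u)) {u : V} (hu : u ∈ U)
    (h1 : b a (g u) = 0) (h2 : b a (g (ω u)) = 0) :
    d u = 0 ∨ d u = a ∨ d u = ω a ∨ d u = ω a + a := by
  have C := S.cfg
  have ha := S.a_mem
  have hxu := S.X_inv x hx u hu
  have hwu := h.mem u hu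
  have hxwu := S.X_inv x hx _ hwu
  -- `[g u, x]` is fixed by `X_0`
  have hfix : ∀ y ∈ X, ρ y (ω a) = ω a → ρ y (ρ x (g u) + g u) = ρ x (g u) + g u := by
    intro y hy h0y
    obtain ⟨e, he, hee⟩ := exists_d S h hy h0y
    have f1 := comm_two S h hx hy h0y hd hde hee hu
    have f2 := comm_two S h hx hy h0y hd hde hee hwu
    have m0 : ∀ v ∈ U, ρ x v + v ∈ U := fun v hv => U.add_mem (S.X_inv x hx v hv) hv
    have m1 : ∀ v ∈ U, ρ y v ∈ U := fun v hv => S.X_inv y hy v hv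
    have m2 : ∀ v ∈ U, e (ρ y (ρ x v + v)) + d (ρ y (ρ x v) + ρ x v) ∈ U := fun v hv =>
      U.add_mem (he.mem S.toBase h (m1 _ (m0 v hv)))
        (hd.mem S.toBase h (U.add_mem (m1 _ (S.X_inv x hx v hv)) (S.X_inv x hx v hv)))
    have m3 : ∀ v ∈ U, ρ y (ρ x v + v) + (ρ x v + v) ∈ U := fun v hv =>
      U.add_mem (m1 _ (m0 v hv)) (m0 v hv)
    -- the `U`-components
    have g1 : e (ρ y (ρ x u + u)) + d (ρ y (ρ x u) + ρ x u) = 0 ∨
        e (ρ y (ρ x u + u)) + d (ρ y (ρ x u) + ρ x u) = a := by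
      rcases two_step C hx hy h1 with k | k
      · left
        rw [f1] at k
        exact (S.uniq (m2 u hu) (m3 u hu) U.zero_mem U.zero_mem (by rw [k, map_zero, add_zero])).1
      · right
        rw [f1] at k
        exact (S.uniq (m2 u hu) (m3 u hu) ha U.zero_mem (by rw [k, map_zero, add_zero])).1
    have g1' : ρ y (ρ x u + u) + (ρ x u + u) = 0 := by
      rcases two_step C hx hy h1 with k | k
      · rw [f1] at k
        exact (S.uniq (m2 u hu) (m3 u hu) U.zero_mem U.zero_mem (by rw [k, map_zero, add_zero])).2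
      · rw [f1] at k
        exact (S.uniq (m2 u hu) (m3 u hu) ha U.zero_mem (by rw [k, map_zero, add_zero])).2
    have g2 : e (ρ y (ρ x (ω u) + ω u)) + d (ρ y (ρ x (ω u)) + ρ x (ω u)) = 0 ∨
        e (ρ y (ρ x (ω u) + ω u)) + d (ρ y (ρ x (ω u)) + ρ x (ω u)) = a := by
      rcases two_step C hx hy h2 with k | k
      · left
        rw [f2] at k
        exact (S.uniq (m2 _ hwu) (m3 _ hwu) U.zero_mem U.zero_mem (by rw [k, map_zero, add_zero])).1
      · right
        rw [f2] at k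
        exact (S.uniq (m2 _ hwu) (m3 _ hwu) ha U.zero_mem (by rw [k, map_zero, add_zero])).1
    -- the second is `ω` times the first
    have g3 : e (ρ y (ρ x (ω u) + ω u)) + d (ρ y (ρ x (ω u)) + ρ x (ω u)) =
        ω (e (ρ y (ρ x u + u)) + d (ρ y (ρ x u) + ρ x u)) := by
      have k1 : ρ x (ω u) = ω (ρ x u) := (comm S.toBase h hx h0x u hu).symm
      have k2 : ρ y (ω (ρ x u)) = ω (ρ y (ρ x u)) := (comm S.toBase h hy h0y _ hxu).symm
      have k3 : ρ y (ω (ρ x u + u)) = ω (ρ y (ρ x u + u)) := (comm S.toBase h hy h0y _ (m0 u hu)).symm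
      rw [k1, k2, ← map_add ω, ← map_add ω, k3, he.commω h (m1 _ (m0 u hu)),
        hd.commω h (U.add_mem (m1 _ hxu) hxu), ← map_add ω]
    rw [g3] at g2
    have g4 : e (ρ y (ρ x u + u)) + d (ρ y (ρ x u) + ρ x u) = 0 := by
      rcases g1 with k | k
      · exact k
      · exfalso
        rw [k] at g2
        rcases g2 with k' | k'
        · exact wa_ne_zero S.toBase h k'
        · exact wa_ne_a S.toBase h k'
    rw [g4, g1', map_zero, add_zero] at f1
    exact C.add_eq_zero.1 f1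
  have hmem := fix0_mem S.toBase h hfix
  have h3 : ρ x (g u) + g u = d (ρ x u) + g (ρ x u + u) := by
    rw [hde u hu, map_add]; abel
  have h4 : ρ x u + u = 0 := by
    apply S.g_inj _ (U.add_mem hxu hu)
    rw [h3] at hmem
    exact (U.add_mem_iff_right (hd.mem S.toBase h hxu)).1 hmem
  have h5 : ρ x u = u := C.add_eq_zero.1 h4
  have h6 : ρ x (g u) + g u = d u := by
    rw [h3, h4, map_zero, add_zero, h5]
  rw [← h6]
  exact fix0 S.toBase h hfix

end Four

/-- **`V = U ⊕ g U`, `|End_L(U)| = 4` is impossible** -/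
theorem Two.false_four (S : Two ρ b q a D X w L U g) {ω : V →ₗ[ZMod 2] V} (h : E4 ρ L U ω) : False := by
  classical
  have C := S.cfg
  have hVf := C.finite_V
  have ha := S.a_mem
  -- some `d_x` is not zero
  obtain ⟨x, hx, h0x, d, hd, hde, hne⟩ : ∃ x ∈ X, ρ x (ω a) = ω a ∧ ∃ d : V →ₗ[ZMod 2] V, Four.InE U ω d ∧
      (∀ u ∈ U, ρ x (g u) = d (ρ x u) + g (ρ x u)) ∧ ∃ u ∈ U, d u ≠ 0 := by
    by_contra hcon
    push Not at hcon
    apply C.a_ne
    apply S.g_inj a ha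
    apply Four.fix0_mem S.toBase h
    intro x hx h0x
    obtain ⟨d, hd, hde⟩ := Four.exists_d S h hx h0x
    have h1 := hcon x hx h0x d hd hde a ha
    rw [hde a ha, C.X_a hx, h1, zero_add]
  -- the map to `F_2 × F_2`
  let φ : U →ₗ[ZMod 2] (ZMod 2 × ZMod 2) :=
    LinearMap.prod ((b a ∘ₗ g) ∘ₗ U.subtype) ((b a ∘ₗ g ∘ₗ ω) ∘ₗ U.subtype)
  have hφ : ∀ u : U, u ∈ LinearMap.ker φ → b a (g u) = 0 ∧ b a (g (ω u)) = 0 := by
    intro u hu
    rw [LinearMap.mem_ker] at hu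
    exact ⟨congrArg Prod.fst hu, congrArg Prod.snd hu⟩
  have hmain : ∀ u : U, u ∈ LinearMap.ker φ →
      d u ∈ (({0, a, ω a, ω a + a} : Finset V) : Set V) := by
    intro u hu
    obtain ⟨h1, h2⟩ := hφ u hu
    have := Four.main S h hx h0x hd hde u.2 h1 h2
    simpa using this
  have hker : Nat.card (LinearMap.ker φ) ≤ 4 := by
    calc Nat.card (LinearMap.ker φ) ≤ Nat.card (({0, a, ω a, ω a + a} : Finset V) : Set V) := by
          apply Nat.card_le_card_of_injective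
            (fun u : LinearMap.ker φ => (⟨d (u : U), hmain u u.2⟩ : (({0, a, ω a, ω a + a} : Finset V) : Set V)))
          intro u v huv
          have h1 : d ((u : U) : V) = d ((v : U) : V) := congrArg Subtype.val huv
          apply Subtype.ext
          apply Subtype.ext
          rw [← sub_eq_zero]
          apply hd.inj S.toBase h hne (U.sub_mem u.1.2 v.1.2)
          rw [map_sub, h1, sub_self]
      _ ≤ 4 := by
          rw [Nat.card_eq_fintype_card]
          simp only [Finset.coe_sort_coe, Fintype.card_coe]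
          exact Finset.card_le_four
  have hquot : Nat.card (U ⧸ LinearMap.ker φ) ≤ 4 := by
    rw [Nat.card_congr φ.quotKerEquivRange.toEquiv]
    calc Nat.card (LinearMap.range φ) ≤ Nat.card (ZMod 2 × ZMod 2) :=
          Nat.card_le_card_of_injective _ Subtype.val_injective
      _ = 4 := by rw [Nat.card_prod, Nat.card_zmod]
  have hcard := Submodule.card_eq_card_quotient_mul_card (LinearMap.ker φ)
  have h16 := S.card_gt
  have : Nat.card U ≤ 16 := by
    rw [hcard]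
    calc _ ≤ 4 * 4 := Nat.mul_le_mul (by assumption) (by assumption)
      _ = 16 := by norm_num
  omega

end Cfsg.Agent.Omega.EH3.Irr
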