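import Cfsg.Agent.Omega.EH3.Irr.Half
import Cfsg.Agent.Omega.EH3.Imp

/-!
# THEOREM IRR of EH3, (1): `V|L` is isotypic (helper962)

`isotypic` : in the configuration `Cfg`, for a normal subgroup `L` of `H`, all simple `L`-submodules of `V` are
isomorphic.

`RL ρ L` is the algebra generated by `L`; `VP P` is the sum of the simple submodules with the property `P` (invariant
under isomorphism).  `X` is transitive on the isomorphism classes (`C_V(X) = {0, a}`); if there are at least four classes,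
two consecutive halvings (`no_quarter`) give a contradiction; if there are two, `V` is the sum of two blocks permuted by
`H`, both totally isotropic or perpendicular: THEOREM IMP.
-/

set_option autoImplicit false

namespace Cfsg.Agent.Omega.EH3.Irr.Isot

open Module Clif

/-! ### modules over a ring -/

section ring

variable {R V : Type*} [Ring R] [AddCommGroup V] [Module R V]

/-- simple submodules -/
abbrev Smp (M : Submodule R V) : Prop := IsSimpleModule R M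

/-- isomorphic submodules -/
def Is (M M' : Submodule R V) : Prop := Nonempty (M ≃ₗ[R] M')

theorem Is.refl (M : Submodule R V) : Is M M := ⟨LinearEquiv.refl R M⟩

theorem Is.symm {M M' : Submodule R V} (h : Is M M') : Is M' M := ⟨h.some.symm⟩

theorem Is.trans {M M' M'' : Submodule R V} (h : Is M M') (h' : Is M' M'') : Is M M'' :=
  ⟨h.some.trans h'.some⟩

theorem Is.cs {M M' : Submodule R V} (h : Is M M') (g : V ≃+ V) (hg : Nor R g) :
    Is (cs g hg M) (cs g hg M') := ⟨ctEquiv g hg h.some⟩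

/-- a property invariant under isomorphism -/
def IsoInv (P : Submodule R V → Prop) : Prop := ∀ M M' : Submodule R V, Is M M' → P M → P M'

/-- the sum of the simple submodules with the property `P` -/
def VP (P : Submodule R V → Prop) : Submodule R V := sSup {M | Smp M ∧ P M}

theorem le_VP {P : Submodule R V → Prop} {M : Submodule R V} (hM : Smp M) (h : P M) :
    M ≤ VP P := le_sSup ⟨hM, h⟩

theorem of_le_VP {P : Submodule R V → Prop} (hP : IsoInv P) {M : Submodule R V} (hM : Smp M)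
    (h : M ≤ VP P) : P M := by
  have : ∀ m : {M : Submodule R V | Smp M ∧ P M}, IsSimpleModule R m := fun m => m.2.1
  obtain ⟨S, hS, e⟩ := M.linearEquiv_of_le_sSup _ h
  exact hP S M (Is.symm e) hS.2

theorem VP_disj [Finite V] {P Q : Submodule R V → Prop} (hP : IsoInv P) (hQ : IsoInv Q)
    (h : ∀ M, Smp M → P M → Q M → False) {v : V} (h1 : v ∈ VP P) (h2 : v ∈ VP Q) : v = 0 := by
  by_contra hv
  have hfin : Finite (Submodule R V) := finite_sub
  have hne : VP P ⊓ VP Q ≠ ⊥ := by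
    intro h3
    have : v ∈ VP P ⊓ VP Q := ⟨h1, h2⟩
    rw [h3] at this
    exact hv ((Submodule.mem_bot R).1 this)
  obtain ⟨M, hM, hle⟩ := (IsAtomic.eq_bot_or_exists_atom_le (VP P ⊓ VP Q)).resolve_left hne
  rw [← isSimpleModule_iff_isAtom] at hM
  exact h M hM (of_le_VP hP hM (hle.trans inf_le_left)) (of_le_VP hQ hM (hle.trans inf_le_right))

theorem cs_VP_le {P Q : Submodule R V → Prop} (g : V ≃+ V) (hg : Nor R g)
    (h : ∀ M, Smp M → P M → Q (cs g hg M)) : cs g hg (VP P) ≤ VP Q := by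
  have h1 : VP P ≤ cs g.symm hg.symm (VP Q) := by
    apply sSup_le
    rintro M ⟨hM, hPM⟩
    have h2 : cs g hg M ≤ VP Q := le_VP (cs_simple hg hM) (h M hM hPM)
    have h3 := cs_mono hg.symm h2
    rwa [cs_symm_cs] at h3
  have h4 := cs_mono hg h1
  rwa [cs_cs_symm] at h4

theorem VP_le_sup {P Q₁ Q₂ : Submodule R V → Prop}
    (h : ∀ M, Smp M → P M → Q₁ M ∨ Q₂ M) : VP P ≤ VP Q₁ ⊔ VP Q₂ := by
  apply sSup_le
  rintro M ⟨hM, hPM⟩
  rcases h M hM hPM with h1 | h1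
  · exact (le_VP hM h1).trans le_sup_left
  · exact (le_VP hM h1).trans le_sup_right

theorem VP_mono {P Q : Submodule R V → Prop} (h : ∀ M, Smp M → P M → Q M) : VP P ≤ VP Q :=
  sSup_le fun _ hM => le_VP hM.1 (h _ hM.1 hM.2)

end ring

/-! ### the algebra generated by `L` -/

variable {H V : Type*} [Group H] [AddCommGroup V] [Module (ZMod 2) V]

/-- the algebra generated by `L` -/
abbrev RL (ρ : H →* (V ≃ₗ[ZMod 2] V)) (L : Subgroup H) : Subalgebra (ZMod 2) (Module.End (ZMod 2) V) :=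
  Algebra.adjoin (ZMod 2) {f | ∃ l ∈ L, f = ((ρ l : V ≃ₗ[ZMod 2] V) : V →ₗ[ZMod 2] V)}

section RL

variable {ρ : H →* (V ≃ₗ[ZMod 2] V)} {L : Subgroup H}

/-- the element of `RL` -/
def rl {l : H} (hl : l ∈ L) : RL ρ L := ⟨((ρ l : V ≃ₗ[ZMod 2] V) : V →ₗ[ZMod 2] V),
  Algebra.subset_adjoin ⟨l, hl, rfl⟩⟩

theorem rl_smul {l : H} (hl : l ∈ L) (v : V) : (rl hl : RL ρ L) • v = ρ l v := rfl

theorem RL_inv {W : Submodule (ZMod 2) V} (hW : Inv ρ L W) {r : Module.End (ZMod 2) V}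
    (hr : r ∈ RL ρ L) : ∀ v ∈ W, r v ∈ W := by
  induction hr using Algebra.adjoin_induction with
  | mem x hx =>
    obtain ⟨l, hl, rfl⟩ := hx
    exact hW l hl
  | algebraMap k =>
    intro v hv
    rw [Module.algebraMap_end_apply]
    exact W.smul_mem k hv
  | add x y _ _ h1 h2 => exact fun v hv => W.add_mem (h1 v hv) (h2 v hv)
  | mul x y _ _ h1 h2 => exact fun v hv => h1 _ (h2 v hv)

/-- an `L`-invariant subspace as a submodule -/
def up (W : Submodule (ZMod 2) V) (hW : Inv ρ L W) : Submodule (RL ρ L) V where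
  carrier := W
  zero_mem' := W.zero_mem
  add_mem' := fun hu hv => W.add_mem hu hv
  smul_mem' := fun r _ hv => RL_inv hW r.2 _ hv

theorem mem_up {W : Submodule (ZMod 2) V} {hW : Inv ρ L W} {v : V} : v ∈ up W hW ↔ v ∈ W := Iff.rfl

/-- a submodule as an `L`-invariant subspace -/
def dn (M : Submodule (RL ρ L) V) : Submodule (ZMod 2) V where
  carrier := M
  zero_mem' := M.zero_mem
  add_mem' := fun hu hv => M.add_mem hu hv
  smul_mem' := by
    intro k v hv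
    rcases zmod_two k with rfl | rfl
    · rw [zero_smul]; exact M.zero_mem
    · rw [one_smul]; exact hv

theorem mem_dn {M : Submodule (RL ρ L) V} {v : V} : v ∈ dn M ↔ v ∈ M := Iff.rfl

theorem dn_inv (M : Submodule (RL ρ L) V) : Inv ρ L (dn M) := fun _ hl _ hv => M.smul_mem (rl hl) hv

theorem up_dn (M : Submodule (RL ρ L) V) : up (dn M) (dn_inv M) = M := SetLike.coe_injective rfl

theorem simple_up {U : Submodule (ZMod 2) V} (hU : Simple ρ L U) : Smp (up U hU.inv) := by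
  unfold Smp
  rw [isSimpleModule_iff_isAtom]
  constructor
  · intro h
    apply hU.ne
    rw [Submodule.eq_bot_iff] at h ⊢
    exact h
  · intro M hM
    have h1 := hU.min (dn M) (fun v hv => hM.le hv) (dn_inv M)
    rcases h1 with h1 | h1
    · rw [Submodule.eq_bot_iff] at h1 ⊢
      exact h1
    · exfalso
      apply hM.ne
      apply SetLike.coe_injective
      have h2 := congrArg (fun W : Submodule (ZMod 2) V => (W : Set V)) h1
      exact h2

/-- conjugation by `h ∈ H` as an additive automorphism -/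
def ga (ρ : H →* (V ≃ₗ[ZMod 2] V)) (h : H) : V ≃+ V := (ρ h).toAddEquiv

theorem ga_apply (h : H) (v : V) : ga ρ h v = ρ h v := rfl

theorem ga_symm (h : H) (v : V) : (ga ρ h).symm v = ρ h⁻¹ v := by
  rw [AddEquiv.symm_apply_eq, ga_apply]
  have e : ρ h (ρ h⁻¹ v) = ρ (h * h⁻¹) v := by rw [map_mul]; rfl
  rw [e, mul_inv_cancel, map_one]; rfl

theorem nor_aux (hL : L.Normal) (h : H) {r : Module.End (ZMod 2) V} (hr : r ∈ RL ρ L) :
    ∃ r' ∈ RL ρ L, ∀ v, r (ρ h v) = ρ h (r' v) := by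
  induction hr using Algebra.adjoin_induction with
  | mem x hx =>
    obtain ⟨l, hl, rfl⟩ := hx
    have h1 : h⁻¹ * l * h ∈ L := by
      have := hL.conj_mem l hl h⁻¹
      rwa [inv_inv] at this
    refine ⟨_, (rl h1 : RL ρ L).2, fun v => ?_⟩
    show ρ l (ρ h v) = ρ h (ρ (h⁻¹ * l * h) v)
    have e : ∀ g k : H, ∀ v, ρ g (ρ k v) = ρ (g * k) v := fun g k v => by rw [map_mul]; rfl
    rw [e, e]
    congr 2
    group
  | algebraMap k =>
    exact ⟨_, Subalgebra.algebraMap_mem _ k, fun v => by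
      rw [Module.algebraMap_end_apply, Module.algebraMap_end_apply, map_smul]⟩
  | add x y _ _ h1 h2 =>
    obtain ⟨x', hx', e1⟩ := h1
    obtain ⟨y', hy', e2⟩ := h2
    exact ⟨x' + y', add_mem hx' hy', fun v => by
      rw [LinearMap.add_apply, LinearMap.add_apply, e1, e2, map_add]⟩
  | mul x y _ _ h1 h2 =>
    obtain ⟨x', hx', e1⟩ := h1
    obtain ⟨y', hy', e2⟩ := h2
    exact ⟨x' * y', mul_mem hx' hy', fun v => by
      show x (y (ρ h v)) = ρ h (x' (y' v))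
      rw [e2, e1]⟩

theorem nor (hL : L.Normal) (h : H) : Nor (RL ρ L) (ga ρ h) := by
  constructor
  · rintro ⟨r, hr⟩
    obtain ⟨r', hr', e⟩ := nor_aux (ρ := ρ) hL h hr
    exact ⟨⟨r', hr'⟩, fun v => e v⟩
  · rintro ⟨r, hr⟩
    obtain ⟨r', hr', e⟩ := nor_aux (ρ := ρ) hL h⁻¹ hr
    refine ⟨⟨r', hr'⟩, fun v => ?_⟩
    rw [ga_symm, ga_symm]
    exact e v

/-- the conjugate `h M` -/
def cj (ρ : H →* (V ≃ₗ[ZMod 2] V)) (hL : L.Normal) (h : H) (M : Submodule (RL ρ L) V) :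
    Submodule (RL ρ L) V := cs (ga ρ h) (nor hL h) M

variable {hL : L.Normal}

theorem mem_cj {h : H} {M : Submodule (RL ρ L) V} {v : V} : v ∈ cj ρ hL h M ↔ ρ h⁻¹ v ∈ M := by
  unfold cj
  rw [mem_cs, ga_symm]

theorem apply_mem_cj {h : H} {M : Submodule (RL ρ L) V} {v : V} : ρ h v ∈ cj ρ hL h M ↔ v ∈ M := by
  rw [mem_cj]
  have e : ρ h⁻¹ (ρ h v) = v := by
    have e1 : ρ h⁻¹ (ρ h v) = ρ (h⁻¹ * h) v := by rw [map_mul]; rfl
    rw [e1, inv_mul_cancel, map_one]; rfl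
  rw [e]

theorem cj_cj (g h : H) (M : Submodule (RL ρ L) V) : cj ρ hL g (cj ρ hL h M) = cj ρ hL (g * h) M := by
  ext v
  rw [mem_cj, mem_cj, mem_cj, mul_inv_rev]
  have e1 : ρ h⁻¹ (ρ g⁻¹ v) = ρ (h⁻¹ * g⁻¹) v := by rw [map_mul]; rfl
  rw [e1]

theorem cj_one (M : Submodule (RL ρ L) V) : cj ρ hL 1 M = M := by
  ext v
  rw [mem_cj, inv_one, map_one]
  exact Iff.rfl

theorem cj_simple {h : H} {M : Submodule (RL ρ L) V} (hM : Smp M) :
    Smp (cj ρ hL h M) := cs_simple _ hM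

theorem Is.cj {M M' : Submodule (RL ρ L) V} (h : Is M M') (hL : L.Normal) (x : H) :
    Is (cj ρ hL x M) (cj ρ hL x M') := h.cs _ _

theorem cj_VP_le {P Q : Submodule (RL ρ L) V → Prop} (h : H)
    (hPQ : ∀ M, Smp M → P M → Q (cj ρ hL h M)) {v : V} (hv : v ∈ VP P) : ρ h v ∈ VP Q :=
  cs_VP_le (ga ρ h) (nor hL h) hPQ ((apply_mem_cj (hL := hL)).2 hv)

end RL

/-! ### classes -/

section main

variable {ρ : H →* (V ≃ₗ[ZMod 2] V)} {b : LinearMap.BilinForm (ZMod 2) V} {q : V → ZMod 2}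
  {a : V} {D : Submodule (ZMod 2) V} {X : Subgroup H} {w : ℕ} {L : Subgroup H} {hL : L.Normal}

/-- `M` is isomorphic to a conjugate of `M₀` under `A` -/
def Cl (ρ : H →* (V ≃ₗ[ZMod 2] V)) (hL : L.Normal) (A : Subgroup H) (M₀ M : Submodule (RL ρ L) V) : Prop :=
  ∃ x ∈ A, Is M (cj ρ hL x M₀)

theorem isoInv_Cl (A : Subgroup H) (M₀ : Submodule (RL ρ L) V) : IsoInv (Cl ρ hL A M₀) := by
  rintro M M' h ⟨x, hx, h1⟩
  exact ⟨x, hx, h.symm.trans h1⟩

theorem Cl.conj {A : Subgroup H} {M₀ M : Submodule (RL ρ L) V} (h : Cl ρ hL A M₀ M) {x : H} (hx : x ∈ A) :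
    Cl ρ hL A M₀ (cj ρ hL x M) := by
  obtain ⟨y, hy, h1⟩ := h
  refine ⟨x * y, A.mul_mem hx hy, ?_⟩
  rw [← cj_cj]
  exact h1.cj hL x

/-- the sum of all simple submodules is `V` -/
theorem top_eq (C : Cfg ρ b q a D X w) (hL : L.Normal) :
    ∀ v, v ∈ (VP (fun _ => True) : Submodule (RL ρ L) V) := by
  have hVf := C.finite_V
  have hfin : Finite (Submodule (RL ρ L) V) := finite_sub
  have h1 := C.irr (dn (VP (fun _ => True) : Submodule (RL ρ L) V)) (fun h v hv =>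
    cj_VP_le (hL := hL) h (fun _ _ _ => trivial) hv)
  rcases h1 with h1 | h1
  · exfalso
    have : Nontrivial V := C.nontrivial_V
    obtain ⟨M, hM⟩ := IsAtomic.exists_atom (Submodule (RL ρ L) V)
    rw [← isSimpleModule_iff_isAtom] at hM
    have h2 : M ≤ VP (fun _ => True) := le_VP hM trivial
    have h3 := IsSimpleModule.nontrivial (RL ρ L) M
    obtain ⟨m, hm⟩ := exists_ne (0 : M)
    apply hm
    apply Subtype.ext
    have h4 : (m : V) ∈ dn (VP (fun _ => True) : Submodule (RL ρ L) V) := h2 m.2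
    rw [h1] at h4
    exact (Submodule.mem_bot _).1 h4
  · intro v
    have : v ∈ dn (VP (fun _ => True) : Submodule (RL ρ L) V) := by rw [h1]; exact Submodule.mem_top
    exact this

theorem exists_simple_of_ne [Finite V] {W : Submodule (RL ρ L) V} {v : V} (hv : v ∈ W) (h0 : v ≠ 0) :
    ∃ M ≤ W, Smp M := by
  have hfin : Finite (Submodule (RL ρ L) V) := finite_sub
  have hne : W ≠ ⊥ := by
    rintro rfl
    exact h0 ((Submodule.mem_bot _).1 hv)
  obtain ⟨M, hM, hle⟩ := (IsAtomic.eq_bot_or_exists_atom_le W).resolve_left hne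
  exact ⟨M, hle, isSimpleModule_iff_isAtom.2 hM⟩

theorem ne_zero_of_simple {M : Submodule (RL ρ L) V} (hM : Smp M) :
    ∃ v ∈ M, v ≠ 0 := by
  have h3 := IsSimpleModule.nontrivial (RL ρ L) M
  obtain ⟨m, hm⟩ := exists_ne (0 : M)
  exact ⟨m, m.2, fun h => hm (Subtype.ext h)⟩

/-- an `X`-invariant sum of simple submodules contains `a` -/
theorem a_mem_VP (C : Cfg ρ b q a D X w) {P : Submodule (RL ρ L) V → Prop}
    (hX : ∀ x ∈ X, ∀ M, Smp M → P M → P (cj ρ hL x M))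
    {M : Submodule (RL ρ L) V} (hM : Smp M) (hPM : P M) : a ∈ VP P := by
  obtain ⟨v, hv, hv0⟩ := ne_zero_of_simple hM
  have h1 : a ∈ dn (VP P) := by
    apply C.a_mem_of_inv (W := dn (VP P))
    · intro x hx u hu
      exact cj_VP_le (hL := hL) x (hX x hx) hu
    · intro h
      have h2 : v ∈ dn (VP P) := le_VP hM hPM hv
      rw [h] at h2
      exact hv0 ((Submodule.mem_bot _).1 h2)
  exact h1

/-- **`X` is transitive on the isomorphism classes** -/
theorem trans (C : Cfg ρ b q a D X w) (hL : L.Normal) {M₀ M : Submodule (RL ρ L) V}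
    (hM₀ : Smp M₀) (hM : Smp M) : Cl ρ hL X M₀ M := by
  have hVf := C.finite_V
  by_contra hcon
  have h1 : a ∈ VP (Cl ρ hL X M₀) := a_mem_VP (hL := hL) C (fun x hx M _ h => h.conj hx) hM₀
    ⟨1, X.one_mem, by rw [cj_one]; exact Is.refl _⟩
  have h2 : a ∈ VP (fun M : Submodule (RL ρ L) V => ¬ Cl ρ hL X M₀ M) := by
    apply a_mem_VP (hL := hL) C _ hM hcon
    intro x hx M _ h h3
    apply h
    have h4 := h3.conj (X.inv_mem hx)
    rwa [cj_cj, inv_mul_cancel, cj_one] at h4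
  apply C.a_ne
  refine VP_disj (isoInv_Cl X M₀) ?_ (fun M _ h h' => h' h) h1 h2
  intro M M' h h3 h4
  exact h3 (isoInv_Cl X M₀ _ _ h.symm h4)

/-- the stabiliser in `X` of the class of `M₀` -/
def stb (X : Subgroup H) (ρ : H →* (V ≃ₗ[ZMod 2] V)) (hL : L.Normal) (M₀ : Submodule (RL ρ L) V) : Subgroup H where
  carrier := {x | x ∈ X ∧ Is (cj ρ hL x M₀) M₀}
  one_mem' := ⟨X.one_mem, by rw [cj_one]; exact Is.refl _⟩
  mul_mem' := by
    rintro x y ⟨hx, h1⟩ ⟨hy, h2⟩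
    refine ⟨X.mul_mem hx hy, ?_⟩
    rw [← cj_cj]
    exact (h2.cj hL x).trans h1
  inv_mem' := by
    rintro x ⟨hx, h1⟩
    refine ⟨X.inv_mem hx, ?_⟩
    have h2 := h1.cj hL x⁻¹
    rw [cj_cj, inv_mul_cancel, cj_one] at h2
    exact h2.symm

/-- a subgroup of index two between (copy of `Clif.Comp.exists_index_two`) -/
theorem exists_index_two [Finite H] {X B : Subgroup H} (hX : ∀ x ∈ X, x * x = 1) (hBX : B ≤ X)
    (hne : B ≠ X) : ∃ A ≤ X, B ≤ A ∧ ∃ y ∈ X, y ∉ A ∧ ∀ x ∈ X, x ∈ A ∨ x * y ∈ A := by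
  have hcomm : ∀ x ∈ X, ∀ y ∈ X, x * y = y * x := by
    intro x hx y hy
    have h1 := hX _ (X.mul_mem hx hy)
    have hxi : x⁻¹ = x := inv_eq_of_mul_eq_one_left (hX x hx)
    have hyi : y⁻¹ = y := inv_eq_of_mul_eq_one_left (hX y hy)
    have h2 : (x * y)⁻¹ = x * y := inv_eq_of_mul_eq_one_left h1
    rw [mul_inv_rev, hxi, hyi] at h2
    exact h2.symm
  obtain ⟨A, hBA, hA⟩ := Finite.exists_le_maximal (p := fun A : Subgroup H => A ≤ X ∧ A ≠ X)
    ⟨hBX, hne⟩
  obtain ⟨x, hx, hxA⟩ : ∃ x ∈ X, x ∉ A := by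
    by_contra hcon
    push Not at hcon
    exact hA.prop.2 (le_antisymm hA.prop.1 hcon)
  refine ⟨A, hA.prop.1, hBA, x, hx, hxA, ?_⟩
  let D : Subgroup H :=
    { carrier := {y | y ∈ X ∧ (y ∈ A ∨ y * x ∈ A)}
      one_mem' := ⟨X.one_mem, Or.inl A.one_mem⟩
      mul_mem' := by
        rintro a b ⟨ha, ha'⟩ ⟨hb, hb'⟩
        refine ⟨X.mul_mem ha hb, ?_⟩
        have hbx := hcomm b hb x hx
        rcases ha' with h1 | h1 <;> rcases hb' with h2 | h2
        · exact Or.inl (A.mul_mem h1 h2)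
        · right
          rw [mul_assoc]
          exact A.mul_mem h1 h2
        · right
          have e : a * b * x = a * x * b := by rw [mul_assoc, hbx, ← mul_assoc]
          rw [e]
          exact A.mul_mem h1 h2
        · left
          have e : a * b = a * x * (b * x) := by
            rw [hbx]
            calc a * b = a * 1 * b := by rw [mul_one]
              _ = a * (x * x) * b := by rw [hX x hx]
              _ = a * x * (x * b) := by group
          rw [e]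
          exact A.mul_mem h1 h2
      inv_mem' := by
        rintro a ⟨ha, ha'⟩
        have h1 : a⁻¹ = a := inv_eq_of_mul_eq_one_left (hX a ha)
        change a⁻¹ ∈ X ∧ (a⁻¹ ∈ A ∨ a⁻¹ * x ∈ A)
        rw [h1]
        exact ⟨ha, ha'⟩ }
  have hAD : A ≤ D := fun a ha => ⟨hA.prop.1 ha, Or.inl ha⟩
  have hDX : D ≤ X := fun a ha => ha.1
  have hxD : x ∈ D := ⟨hx, Or.inr (by rw [hX x hx]; exact A.one_mem)⟩
  have hD : D = X := by
    by_contra hcon
    exact hxA (hA.le_of_ge ⟨hDX, hcon⟩ hAD hxD)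
  intro y hy
  rw [← hD] at hy
  exact hy.2

/-- the halves given by the classes -/
theorem halves (C : Cfg ρ b q a D X w) (hL : L.Normal) {M₀ : Submodule (RL ρ L) V} {A A' : Subgroup H} (hAX : A ≤ X)
    (hA : A' ≤ A) (hB : ∀ x ∈ A, Is (cj ρ hL x M₀) M₀ → x ∈ A') {y : H} (hy : y ∈ A) (hyA : y ∉ A')
    (hcov : ∀ x ∈ A, x ∈ A' ∨ x * y ∈ A') :
    Halves ρ A A' y (dn (VP (Cl ρ hL A M₀))) (dn (VP (Cl ρ hL A' M₀))) (dn (VP (Cl ρ hL A' (cj ρ hL y M₀)))) := by
  have hVf := C.finite_V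
  have hyy : y * y = 1 := C.X_sq y (hAX hy)
  refine ⟨hA, hy, hyA, hcov, ?_, ?_, ?_, ?_, ?_, ?_, ?_, ?_⟩
  · apply VP_mono
    rintro M _ ⟨x, hx, h⟩
    exact ⟨x, hA hx, h⟩
  · apply VP_mono
    rintro M _ ⟨x, hx, h⟩
    rw [cj_cj] at h
    exact ⟨x * y, A.mul_mem (hA hx) hy, h⟩
  · intro v h1 h2
    refine VP_disj (isoInv_Cl A' M₀) (isoInv_Cl A' _) ?_ h1 h2
    rintro M _ ⟨x, hx, h⟩ ⟨x', hx', h'⟩
    rw [cj_cj] at h'
    have h3 := (h.symm.trans h').symm.cj hL x⁻¹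
    rw [cj_cj, cj_cj, inv_mul_cancel, cj_one] at h3
    have h4 := hB _ (A.mul_mem (A.inv_mem (hA hx)) (A.mul_mem (hA hx') hy)) h3
    apply hyA
    have h5 : y = x'⁻¹ * x * (x⁻¹ * (x' * y)) := by group
    rw [h5]
    exact A'.mul_mem (A'.mul_mem (A'.inv_mem hx') hx) h4
  · intro v hv
    have h1 : VP (Cl ρ hL A M₀) ≤ VP (Cl ρ hL A' M₀) ⊔ VP (Cl ρ hL A' (cj ρ hL y M₀)) := by
      apply VP_le_sup
      rintro M _ ⟨x, hx, h⟩
      rcases hcov x hx with h2 | h2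
      · exact Or.inl ⟨x, h2, h⟩
      · refine Or.inr ⟨x * y, h2, ?_⟩
        rw [cj_cj, mul_assoc, hyy, mul_one]
        exact h
    obtain ⟨v₁, k1, v₂, k2, e⟩ := Submodule.mem_sup.1 (h1 hv)
    exact ⟨v₁, k1, v₂, k2, e⟩
  · intro x hx v hv
    exact cj_VP_le (hL := hL) x (fun M _ h => h.conj hx) hv
  · intro x hx v hv
    exact cj_VP_le (hL := hL) x (fun M _ h => h.conj hx) hv
  · intro v hv
    refine cj_VP_le (hL := hL) y ?_ hv
    rintro M _ ⟨x, hx, h⟩
    refine ⟨x, hx, ?_⟩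
    rw [cj_cj, C.X_comm (hAX (hA hx)) (hAX hy), ← cj_cj]
    exact h.cj hL y
  · intro v hv
    refine cj_VP_le (hL := hL) y ?_ hv
    rintro M _ ⟨x, hx, h⟩
    refine ⟨x, hx, ?_⟩
    have h1 := h.cj hL y
    rw [cj_cj, cj_cj] at h1
    have h2 : y * x * y = x := by
      rw [mul_assoc, C.X_comm (hAX (hA hx)) (hAX hy), ← mul_assoc, hyy, one_mul]
    rwa [h2] at h1

/-- the class of `M₀` -/
def Ty (M₀ M : Submodule (RL ρ L) V) : Prop := Is M M₀

theorem isoInv_Ty (M₀ : Submodule (RL ρ L) V) : IsoInv (Ty M₀) := fun _ _ h h' => h.symm.trans h'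

/-- the homogeneous component -/
def Wt (M₀ : Submodule (RL ρ L) V) : Submodule (ZMod 2) V := dn (VP (Ty M₀))

theorem le_Wt {M₀ M : Submodule (RL ρ L) V} (hM : Smp M) (h : Is M M₀) {v : V} (hv : v ∈ M) :
    v ∈ Wt M₀ := le_VP (P := Ty M₀) hM h hv

theorem Wt_map (hL : L.Normal) (h : H) {M₀ M₁ : Submodule (RL ρ L) V} (h1 : Is (cj ρ hL h M₀) M₁) {v : V}
    (hv : v ∈ Wt M₀) : ρ h v ∈ Wt M₁ :=
  cj_VP_le (P := Ty M₀) (Q := Ty M₁) (hL := hL) h (fun _ _ h3 => (Is.cj h3 hL h).trans h1) hv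

theorem Wt_disj [Finite V] {M₀ M₁ : Submodule (RL ρ L) V} (h : ¬ Is M₁ M₀) {v : V} (h1 : v ∈ Wt M₀)
    (h2 : v ∈ Wt M₁) : v = 0 :=
  VP_disj (isoInv_Ty M₀) (isoInv_Ty M₁) (fun _ _ h3 h4 => h (Is.trans (Is.symm h4) h3)) h1 h2

theorem Wt_sum (C : Cfg ρ b q a D X w) (hL : L.Normal) {M₀ M₁ : Submodule (RL ρ L) V}
    (hall : ∀ M : Submodule (RL ρ L) V, Smp M → Is M M₀ ∨ Is M M₁) (v : V) :
    ∃ v₁ ∈ Wt M₀, ∃ v₂ ∈ Wt M₁, v₁ + v₂ = v := by
  have h1 : VP (fun _ : Submodule (RL ρ L) V => True) ≤ VP (Ty M₀) ⊔ VP (Ty M₁) :=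
    VP_le_sup fun M hM _ => hall M hM
  obtain ⟨v₁, k1, v₂, k2, e⟩ := Submodule.mem_sup.1 (h1 (top_eq C hL v))
  exact ⟨v₁, k1, v₂, k2, e⟩

theorem Wt_inv (M₀ : Submodule (RL ρ L) V) : Inv ρ L (Wt M₀) := dn_inv _

/-- two classes: a block decomposition -/
theorem blk (C : Cfg ρ b q a D X w) (hL : L.Normal) {M₀ M₁ : Submodule (RL ρ L) V}
    (hM₀ : Smp M₀) (hM₁ : Smp M₁) (hne : ¬ Is M₁ M₀)
    (hall : ∀ M : Submodule (RL ρ L) V, Smp M → Is M M₀ ∨ Is M M₁) : Imp.Blk ρ (Wt M₀) (Wt M₁) := by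
  have hVf := C.finite_V
  -- `H` permutes the classes
  have hperm : ∀ h : H, (Is (cj ρ hL h M₀) M₀ ∧ Is (cj ρ hL h M₁) M₁) ∨
      (Is (cj ρ hL h M₀) M₁ ∧ Is (cj ρ hL h M₁) M₀) := by
    intro h
    have key : ¬ Is (cj ρ hL h M₁) (cj ρ hL h M₀) := by
      intro h1
      apply hne
      have h2 := h1.cj hL h⁻¹
      rw [cj_cj, cj_cj, inv_mul_cancel, cj_one, cj_one] at h2
      exact h2
    rcases hall _ (cj_simple (h := h) hM₀) with h1 | h1
    · rcases hall _ (cj_simple (h := h) hM₁) with h2 | h2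
      · exact absurd (h2.trans h1.symm) key
      · exact Or.inl ⟨h1, h2⟩
    · rcases hall _ (cj_simple (h := h) hM₁) with h2 | h2
      · exact Or.inr ⟨h1, h2⟩
      · exact absurd (h2.trans h1.symm) key
  refine ⟨fun v h1 h2 => Wt_disj hne h1 h2, Wt_sum C hL hall, ?_, ?_, ?_⟩
  · obtain ⟨v, hv, hv0⟩ := ne_zero_of_simple hM₀
    rw [Submodule.ne_bot_iff]
    exact ⟨v, le_Wt hM₀ (Is.refl _) hv, hv0⟩
  · obtain ⟨v, hv, hv0⟩ := ne_zero_of_simple hM₁
    rw [Submodule.ne_bot_iff]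
    exact ⟨v, le_Wt hM₁ (Is.refl _) hv, hv0⟩
  · intro h
    rcases hperm h with ⟨h1, h2⟩ | ⟨h1, h2⟩
    · left
      exact ⟨fun v hv => Wt_map hL h h1 hv, fun v hv => Wt_map hL h h2 hv⟩
    · right
      exact ⟨fun v hv => Wt_map hL h h1 hv, fun v hv => Wt_map hL h h2 hv⟩

/-- the case of two classes -/
theorem two_blocks (C : Cfg ρ b q a D X w) (hL : L.Normal) {M₀ : Submodule (RL ρ L) V}
    (hM₀ : Smp M₀) {y : H} (hy : y ∈ X) (hyM : ¬ Is (cj ρ hL y M₀) M₀)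
    (hall : ∀ M : Submodule (RL ρ L) V, Smp M → Is M M₀ ∨ Is M (cj ρ hL y M₀)) : False := by
  have hVf := C.finite_V
  have hyy : y * y = 1 := C.X_sq y hy
  have hM₁ : Smp (cj ρ hL y M₀) := cj_simple hM₀
  have B := blk C hL hM₀ hM₁ hyM hall
  have hdisj : ∀ v ∈ Wt M₀, v ∈ Wt (cj ρ hL y M₀) → v = 0 := fun v h1 h2 => Wt_disj hyM h1 h2
  have hle₁ : ∀ M : Submodule (RL ρ L) V, Smp M → Is M M₀ → ∀ v ∈ M, v ∈ Wt M₀ :=
    fun M hM h v hv => le_Wt hM h hv
  have hle₂ : ∀ M : Submodule (RL ρ L) V, Smp M → Is M (cj ρ hL y M₀) → ∀ v ∈ M, v ∈ Wt (cj ρ hL y M₀) :=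
    fun M hM h v hv => le_Wt hM h hv
  have hL₁ : Inv ρ L (Wt M₀) := Wt_inv M₀
  have hy₁ : ∀ v ∈ Wt M₀, ρ y v ∈ Wt (cj ρ hL y M₀) := fun v hv => Wt_map hL y (Is.refl _) hv
  generalize Wt M₀ = W₁ at B hdisj hle₁ hL₁ hy₁
  generalize Wt (cj ρ hL y M₀) = W₂ at B hdisj hle₂ hy₁
  have hysw : Imp.Sw ρ W₁ W₂ y := by
    rcases B.perm y with h | h
    · exfalso
      obtain ⟨v, hv, hv0⟩ := ne_zero_of_simple hM₀
      apply hv0
      have h1 : v ∈ W₁ := hle₁ M₀ hM₀ (Is.refl _) v hv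
      have h2 : ρ y v ∈ W₂ := hy₁ v h1
      have h3 := hdisj _ (h.1 v h1) h2
      have h4 := C.ρ_inv_apply y v
      rw [h3, map_zero] at h4
      exact h4.symm
    · exact h
  have hyv : ∀ v, ρ y (ρ y v) = v := fun v => by rw [← C.ρ_mul, hyy, C.ρ_one]
  -- an `H`-invariant family: `R ≤ W_i` invariant under the stabiliser of the blocks
  have hirr : ∀ R W W' : Submodule (ZMod 2) V, Imp.Blk ρ W W' → Imp.Sw ρ W W' y → R ≤ W → R ≠ ⊥ →
      (∀ h, Imp.St ρ W W' h → ∀ v ∈ R, ρ h v ∈ R) → R = W := by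
    intro R W W' BW sw hRW hR hinv
    have hst : ∀ h, Imp.St ρ W W' h → Imp.St ρ W W' (y * h * y) := by
      intro h hs
      refine ⟨fun v hv => ?_, fun v hv => ?_⟩
      · rw [C.ρ_mul, C.ρ_mul]; exact sw.2 _ (hs.2 _ (sw.1 _ hv))
      · rw [C.ρ_mul, C.ρ_mul]; exact sw.1 _ (hs.1 _ (sw.2 _ hv))
    let S : Submodule (ZMod 2) V := R ⊔ R.map ((ρ y : V ≃ₗ[ZMod 2] V) : V →ₗ[ZMod 2] V)
    have hS : ∀ h, ∀ v ∈ S, ρ h v ∈ S := by
      intro h v hv
      obtain ⟨r, hr, _, ⟨r', hr', rfl⟩, rfl⟩ := Submodule.mem_sup.1 hv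
      rw [map_add]
      change ρ h r + ρ h (ρ y r') ∈ S
      rcases BW.perm h with hs | hs
      · apply S.add_mem
        · exact Submodule.mem_sup_left (hinv h hs r hr)
        · apply Submodule.mem_sup_right
          refine ⟨ρ (y * h * y) r', hinv _ (hst h hs) r' hr', ?_⟩
          change ρ y (ρ (y * h * y) r') = ρ h (ρ y r')
          rw [C.ρ_mul, C.ρ_mul, hyv]
      · have hs' : Imp.St ρ W W' (y * h) := hs.mul C sw |> fun _ => ⟨fun v hv => by
          rw [C.ρ_mul]; exact sw.2 _ (hs.1 v hv), fun v hv => by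
          rw [C.ρ_mul]; exact sw.1 _ (hs.2 v hv)⟩
        have hs'' : Imp.St ρ W W' (h * y) := hs.mul C sw
        apply S.add_mem
        · apply Submodule.mem_sup_right
          refine ⟨ρ (y * h) r, hinv _ hs' r hr, ?_⟩
          change ρ y (ρ (y * h) r) = ρ h r
          rw [C.ρ_mul, hyv]
        · apply Submodule.mem_sup_left
          have := hinv _ hs'' r' hr'
          rwa [C.ρ_mul] at this
    have hSt : S = ⊤ := by
      rcases C.irr S hS with h | h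
      · exfalso
        apply hR
        rw [eq_bot_iff, ← h]
        exact le_sup_left
      · exact h
    apply le_antisymm hRW
    intro v hv
    have h1 : v ∈ S := by rw [hSt]; exact Submodule.mem_top
    obtain ⟨r, hr, _, ⟨r', hr', rfl⟩, hvr⟩ := Submodule.mem_sup.1 h1
    have h2 : ρ y r' ∈ W' := sw.1 _ (hRW hr')
    have h3 : v + r = ρ y r' := by
      rw [← hvr]
      change r + ρ y r' + r = ρ y r'
      rw [add_comm r, C.add_add_self]
    have h4 := BW.inf (v + r) (W.add_mem hv (hRW hr)) (by rw [h3]; exact h2)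
    rw [C.add_eq_zero.1 h4]
    exact hr
  -- the perpendicular space
  have hperp : ∀ h, Imp.St ρ W₁ W₂ h → ∀ v, (∀ u ∈ W₁, b u v = 0) → ∀ u ∈ W₁, b u (ρ h v) = 0 := by
    intro h hs v hv u hu
    rw [← C.ρ_apply_inv h u, C.b_inv]
    exact hv _ ((hs.inv C B).1 u hu)
  by_cases h1 : ∃ v ∈ W₁, v ≠ 0 ∧ ∀ u ∈ W₁, b u v = 0
  · -- `W₁` totally isotropic
    obtain ⟨v, hv, hv0, hvp⟩ := h1
    have h2 : W₁ ⊓ b.orthogonal W₁ = W₁ := by
      apply hirr _ W₁ W₂ B hysw inf_le_left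
      · rw [Submodule.ne_bot_iff]
        exact ⟨v, ⟨hv, (C.mem_perp W₁).2 hvp⟩, hv0⟩
      · rintro h hs u ⟨hu1, hu2⟩
        refine ⟨hs.1 u hu1, (C.mem_perp W₁).2 (hperp h hs u ((C.mem_perp W₁).1 hu2))⟩
    have h3 : ∀ u ∈ W₁, ∀ v ∈ W₁, b u v = 0 := by
      intro u hu v hv
      rw [← h2] at hv
      exact (C.mem_perp W₁).1 hv.2 u hu
    apply Imp.false_ti C B h3
    intro u hu v hv
    rw [← C.b_inv y]
    exact h3 _ (hysw.2 u hu) _ (hysw.2 v hv)
  · by_cases h2 : ∃ v ∈ W₂, v ≠ 0 ∧ ∀ u ∈ W₁, b u v = 0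
    · -- perpendicular
      obtain ⟨v, hv, hv0, hvp⟩ := h2
      have h3 : W₂ ⊓ b.orthogonal W₁ = W₂ := by
        apply hirr _ W₂ W₁ B.symm hysw.symm inf_le_left
        · rw [Submodule.ne_bot_iff]
          exact ⟨v, ⟨hv, (C.mem_perp W₁).2 hvp⟩, hv0⟩
        · rintro h hs u ⟨hu1, hu2⟩
          refine ⟨hs.1 u hu1, (C.mem_perp W₁).2 (hperp h hs.symm u ((C.mem_perp W₁).1 hu2))⟩
      apply Imp.false_perp C B
      intro u hu v hv
      rw [← h3] at hv
      exact (C.mem_perp W₁).1 hv.2 u hu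
    · -- impossible: a simple submodule of the perpendicular space
      have hWp : Inv ρ L (b.orthogonal W₁) := by
        intro l hl v hv
        rw [C.mem_perp] at hv ⊢
        intro u hu
        rw [← C.ρ_apply_inv l u, C.b_inv]
        exact hv _ (hL₁ l⁻¹ (L.inv_mem hl) u hu)
      obtain ⟨v, hv, hv0⟩ : ∃ v ∈ b.orthogonal W₁, v ≠ 0 := by
        by_contra hcon
        push Not at hcon
        have h5 : b.orthogonal W₁ = ⊥ := (Submodule.eq_bot_iff _).2 hcon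
        have h6 : b.orthogonal (b.orthogonal W₁) = ⊤ := by
          rw [h5, eq_top_iff]
          intro v _
          rw [C.mem_perp]
          intro u hu
          rw [(Submodule.mem_bot _).1 hu, map_zero, LinearMap.zero_apply]
        rw [C.perp_perp] at h6
        obtain ⟨v, hv, hv0⟩ := (Submodule.ne_bot_iff _).1 B.ne₂
        exact hv0 (hdisj v (by rw [h6]; exact Submodule.mem_top) hv)
      obtain ⟨M, hMle, hM⟩ := exists_simple_of_ne (W := up (b.orthogonal W₁) hWp) hv hv0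
      obtain ⟨u, hu, hu0⟩ := ne_zero_of_simple hM
      have hup : ∀ u' ∈ W₁, b u' u = 0 := (C.mem_perp W₁).1 (hMle hu)
      rcases hall M hM with h5 | h5
      · exact h1 ⟨u, hle₁ M hM h5 u hu, hu0, hup⟩
      · exact h2 ⟨u, hle₂ M hM h5 u hu, hu0, hup⟩

/-- all simple submodules are isomorphic -/
theorem is_of_simple (C : Cfg ρ b q a D X w) (hL : L.Normal) {M₀ M : Submodule (RL ρ L) V}
    (hM₀ : Smp M₀) (hM : Smp M) : Is M₀ M := by
  have hVf := C.finite_V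
  have hHf := C.finite_H
  by_contra hcon
  have hBX : stb X ρ hL M₀ ≤ X := fun x hx => hx.1
  have hBne : stb X ρ hL M₀ ≠ X := by
    intro h
    obtain ⟨x, hx, h1⟩ := trans C hL hM₀ hM
    have h2 : x ∈ stb X ρ hL M₀ := by rw [h]; exact hx
    exact hcon (h1.trans h2.2).symm
  obtain ⟨A, hAX, hBA, y, hy, hyA, hcov⟩ := exists_index_two C.X_sq hBX hBne
  have hH := halves C hL (M₀ := M₀) le_rfl hAX (fun x hx h => hBA ⟨hx, h⟩) hy hyA hcov
  have htop : dn (VP (Cl ρ hL X M₀)) = ⊤ := by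
    rw [eq_top_iff]
    intro v _
    exact VP_mono (fun M hM _ => trans C hL hM₀ hM) (top_eq C hL v)
  rw [htop] at hH
  by_cases hBA' : stb X ρ hL M₀ = A
  · -- two classes
    apply two_blocks C hL hM₀ hy (fun h => hyA (hBA ⟨hy, h⟩))
    intro M' hM'
    obtain ⟨x, hx, h1⟩ := trans C hL hM₀ hM'
    rcases hcov x hx with h2 | h2
    · left
      rw [← hBA'] at h2
      exact h1.trans h2.2
    · right
      rw [← hBA'] at h2
      have h3 := h2.2.cj hL y
      rw [cj_cj] at h3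
      have h4 : y * (x * y) = x := by
        rw [C.X_comm hx hy, ← mul_assoc, C.X_sq y hy, one_mul]
      rw [h4] at h3
      exact h1.trans h3
  · -- at least four classes
    obtain ⟨A', hA'A, hBA'', y', hy', hyA', hcov'⟩ :=
      exists_index_two (fun x hx => C.X_sq x (hAX hx)) hBA hBA'
    exact no_quarter C hH (halves C hL (M₀ := M₀) hAX hA'A (fun x hx h => hBA'' ⟨hAX hx, h⟩) hy' hyA' hcov')

end main

end Cfsg.Agent.Omega.EH3.Irr.Isot

namespace Cfsg.Agent.Omega.EH3.Irr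

open Module Clif Isot

variable {H V : Type*} [Group H] [AddCommGroup V] [Module (ZMod 2) V]
  {ρ : H →* (V ≃ₗ[ZMod 2] V)} {b : LinearMap.BilinForm (ZMod 2) V} {q : V → ZMod 2}
  {a : V} {D : Submodule (ZMod 2) V} {X : Subgroup H} {w : ℕ} {L : Subgroup H}

/-- **THEOREM IRR (1)**: all simple `L`-submodules of `V` are isomorphic. -/
theorem isotypic (C : Cfg ρ b q a D X w) (hL : L.Normal) {U U' : Submodule (ZMod 2) V} (hU : Simple ρ L U)
    (hU' : Simple ρ L U') : ∃ f : V →ₗ[ZMod 2] V, LMap ρ L U f ∧ U.map f = U' := by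
  obtain ⟨φ⟩ := is_of_simple C hL (simple_up hU) (simple_up hU')
  let g₀ : U →+ V := AddMonoidHom.mk' (fun u => ((φ ⟨u, u.2⟩ : up U' hU'.inv) : V)) (by
    intro u v
    have h1 : (⟨((u + v : U) : V), (u + v).2⟩ : up U hU.inv) = ⟨u, u.2⟩ + ⟨v, v.2⟩ := rfl
    show ((φ ⟨((u + v : U) : V), (u + v).2⟩ : up U' hU'.inv) : V) = _
    rw [h1, φ.map_add]; rfl)
  let g : U →ₗ[ZMod 2] V := g₀.toZModLinearMap 2
  obtain ⟨f, hf⟩ := LinearMap.exists_extend g
  have hfg : ∀ u (hu : u ∈ U), f u = (φ ⟨u, hu⟩ : up U' hU'.inv) := by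
    intro u hu
    exact LinearMap.congr_fun hf ⟨u, hu⟩
  refine ⟨f, ?_, ?_⟩
  · intro l hl u hu
    rw [hfg _ (hU.inv l hl u hu), hfg _ hu]
    have h1 := φ.map_smul (rl hl) ⟨u, hu⟩
    exact congrArg Subtype.val h1
  · ext v
    constructor
    · rintro ⟨u, hu, rfl⟩
      rw [hfg u hu]
      exact (φ ⟨u, hu⟩).2
    · intro hv
      refine ⟨φ.symm ⟨v, hv⟩, (φ.symm ⟨v, hv⟩).2, ?_⟩
      rw [hfg _ (φ.symm ⟨v, hv⟩).2]
      exact congrArg Subtype.val (φ.apply_symm_apply ⟨v, hv⟩)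

end Cfsg.Agent.Omega.EH3.Irr
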