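import Cfsg.Agent.Omega.EH3.Cons
import Cfsg.Agent.Omega.EH3.Clif.Fld
import Mathlib.LinearAlgebra.BilinearForm.Properties
import Mathlib.RingTheory.LittleWedderburn

/-!
# THEOREM IRR of EH3, part (3): `End_L(V)` is `F_2` or `F_4` (helper616, for helper807)

`shape` : `L` normal in `H`, `V|L` irreducible.  Then `End_L(V) = {0, 1}`, or `End_L(V) = {0, 1, ζ, ζ + 1}` with
`ζ² = ζ + 1`, every `h ∈ H` is linear or semilinear for `ζ`, and `ζ` is self-adjoint or `ζ* = ζ + 1`.
-/

set_option autoImplicit false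

namespace Cfsg.Agent.Omega.EH3.Irr.Shape

variable {H V : Type*} [Group H] [AddCommGroup V] [Module (ZMod 2) V]
  {ρ : H →* (V ≃ₗ[ZMod 2] V)} {b : LinearMap.BilinForm (ZMod 2) V} {q : V → ZMod 2}
  {a : V} {D : Submodule (ZMod 2) V} {X : Subgroup H} {w : ℕ} {L : Subgroup H}

/-- `f` commutes with `L` -/
def Cm (ρ : H →* (V ≃ₗ[ZMod 2] V)) (L : Subgroup H) (f : V →ₗ[ZMod 2] V) : Prop :=
  ∀ l ∈ L, ∀ v, f (ρ l v) = ρ l (f v)

/-- the commutant -/
def E (ρ : H →* (V ≃ₗ[ZMod 2] V)) (L : Subgroup H) : Subring (Module.End (ZMod 2) V) where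
  carrier := {f | Cm ρ L f}
  mul_mem' := fun {f g} hf hg l hl v => by
    show f (g (ρ l v)) = ρ l (f (g v))
    rw [hg l hl, hf l hl]
  one_mem' := fun l _ v => rfl
  add_mem' := fun {f g} hf hg l hl v => by
    show f (ρ l v) + g (ρ l v) = ρ l (f v + g v)
    rw [hf l hl, hg l hl, map_add]
  zero_mem' := fun l _ v => by
    show (0 : V) = ρ l 0
    rw [map_zero]
  neg_mem' := fun {f} hf l hl v => by
    show -(f (ρ l v)) = ρ l (-(f v))
    rw [hf l hl, map_neg]

theorem mem_E {f : Module.End (ZMod 2) V} : f ∈ E ρ L ↔ ∀ l ∈ L, ∀ v, f (ρ l v) = ρ l (f v) :=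
  Iff.rfl

/-- irreducibility of `V|L` -/
def Ir (ρ : H →* (V ≃ₗ[ZMod 2] V)) (L : Subgroup H) : Prop :=
  ∀ W : Submodule (ZMod 2) V, (∀ l ∈ L, ∀ v ∈ W, ρ l v ∈ W) → W = ⊥ ∨ W = ⊤

theorem injective (hirr : Ir ρ L) {f : V →ₗ[ZMod 2] V} (hf : Cm ρ L f) (h0 : f ≠ 0) {v : V}
    (hv : f v = 0) : v = 0 := by
  rcases hirr (LinearMap.ker f) (fun l hl u hu => by
    rw [LinearMap.mem_ker] at hu ⊢
    rw [hf l hl, hu, map_zero]) with h | h
  · have : v ∈ LinearMap.ker f := hv
    rw [h] at this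
    exact this
  · exfalso
    exact h0 (LinearMap.ker_eq_top.1 h)

theorem add_self_E (C : Cfg ρ b q a D X w) (x : E ρ L) : x + x = 0 := by
  apply Subtype.ext
  apply LinearMap.ext
  intro v
  exact C.add_self _

theorem isDomain (C : Cfg ρ b q a D X w) (hirr : Ir ρ L) : IsDomain (E ρ L) := by
  have : Nontrivial (E ρ L) := ⟨⟨0, 1, fun h => by
    have h1 : (0 : Module.End (ZMod 2) V) a = (1 : Module.End (ZMod 2) V) a :=
      congrArg (fun x : E ρ L => (x : Module.End (ZMod 2) V) a) h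
    exact C.a_ne h1.symm⟩⟩
  have : NoZeroDivisors (E ρ L) := ⟨fun {x y} h => by
    by_contra hcon
    push Not at hcon
    obtain ⟨hx, hy⟩ := hcon
    have hx' : (x : Module.End (ZMod 2) V) ≠ 0 := fun h => hx (Subtype.ext h)
    have hy' : (y : Module.End (ZMod 2) V) ≠ 0 := fun h => hy (Subtype.ext h)
    apply C.a_ne
    have h1 : (x : Module.End (ZMod 2) V) ((y : Module.End (ZMod 2) V) a) = 0 := by
      have := congrArg (fun x : E ρ L => (x : Module.End (ZMod 2) V) a) h
      exact this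
    exact injective hirr y.2 hy' (injective hirr x.2 hx' h1)⟩
  exact NoZeroDivisors.to_isDomain _

theorem conj_mem (C : Cfg ρ b q a D X w) (hL : L.Normal) (h : H) {f : Module.End (ZMod 2) V}
    (hf : f ∈ E ρ L) :
    ((ρ h : V →ₗ[ZMod 2] V) ∘ₗ f ∘ₗ (ρ h⁻¹ : V →ₗ[ZMod 2] V) : Module.End (ZMod 2) V) ∈ E ρ L := by
  intro l hl v
  show ρ h (f (ρ h⁻¹ (ρ l v))) = ρ l (ρ h (f (ρ h⁻¹ v)))
  have h1 : h⁻¹ * l * h ∈ L := by
    have := hL.conj_mem l hl h⁻¹
    rwa [inv_inv] at this
  have h2 : ρ h⁻¹ (ρ l v) = ρ (h⁻¹ * l * h) (ρ h⁻¹ v) := by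
    rw [← C.ρ_mul, ← C.ρ_mul]
    congr 2
    group
  rw [h2, hf _ h1, ← C.ρ_mul, ← C.ρ_mul]
  congr 2
  group

/-- conjugation by `h` on the commutant -/
def sg (C : Cfg ρ b q a D X w) (hL : L.Normal) (h : H) : E ρ L ≃+* E ρ L where
  toFun f := ⟨_, conj_mem C hL h f.2⟩
  invFun f := ⟨_, conj_mem C hL h⁻¹ f.2⟩
  left_inv f := by
    apply Subtype.ext
    apply LinearMap.ext
    intro v
    show ρ h⁻¹ (ρ h ((f : Module.End (ZMod 2) V) (ρ h⁻¹ (ρ h⁻¹⁻¹ v)))) = _
    rw [C.ρ_inv_apply, inv_inv, C.ρ_inv_apply]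
  right_inv f := by
    apply Subtype.ext
    apply LinearMap.ext
    intro v
    show ρ h (ρ h⁻¹ ((f : Module.End (ZMod 2) V) (ρ h⁻¹⁻¹ (ρ h⁻¹ v)))) = _
    rw [C.ρ_apply_inv, inv_inv, C.ρ_apply_inv]
  map_mul' f g := by
    apply Subtype.ext
    apply LinearMap.ext
    intro v
    show ρ h ((f : Module.End (ZMod 2) V) ((g : Module.End (ZMod 2) V) (ρ h⁻¹ v))) =
      ρ h ((f : Module.End (ZMod 2) V) (ρ h⁻¹ (ρ h ((g : Module.End (ZMod 2) V) (ρ h⁻¹ v)))))
    rw [C.ρ_inv_apply]
  map_add' f g := by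
    apply Subtype.ext
    apply LinearMap.ext
    intro v
    show ρ h ((f : Module.End (ZMod 2) V) (ρ h⁻¹ v) + (g : Module.End (ZMod 2) V) (ρ h⁻¹ v)) = _
    rw [map_add]
    rfl

theorem sg_apply (C : Cfg ρ b q a D X w) (hL : L.Normal) (h : H) (f : E ρ L) (v : V) :
    (sg C hL h f : Module.End (ZMod 2) V) v = ρ h ((f : Module.End (ZMod 2) V) (ρ h⁻¹ v)) := rfl

theorem sg_sg (C : Cfg ρ b q a D X w) (hL : L.Normal) (x : X) (f : E ρ L) :
    sg C hL (x : H) (sg C hL (x : H) f) = f := by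
  apply Subtype.ext
  apply LinearMap.ext
  intro v
  rw [sg_apply, sg_apply, C.X_inv x.2, ← C.ρ_mul, ← C.ρ_mul, C.X_sq x x.2, C.ρ_one, C.ρ_one]

/-- the elements commuting with `X` are `0` and `1` -/
theorem fix_eq (C : Cfg ρ b q a D X w) (hirr : Ir ρ L) (hL : L.Normal) {f : E ρ L}
    (h : ∀ x : X, sg C hL (x : H) f = f) : f = 0 ∨ f = 1 := by
  have h1 : ∀ x ∈ X, ρ x ((f : Module.End (ZMod 2) V) a) = (f : Module.End (ZMod 2) V) a := by
    intro x hx
    have h2 : (sg C hL x f : Module.End (ZMod 2) V) a = (f : Module.End (ZMod 2) V) a := by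
      rw [h ⟨x, hx⟩]
    rw [sg_apply, C.X_a (X.inv_mem hx)] at h2
    exact h2
  rcases C.fix_X h1 with h2 | h2
  · left
    by_contra h0
    exact C.a_ne (injective hirr f.2 (fun h3 => h0 (Subtype.ext h3)) h2)
  · right
    by_contra h0
    have h3 : f + 1 ≠ 0 := by
      intro h4
      apply h0
      have h5 : f + 1 + 1 = 0 + 1 := by rw [h4]
      rwa [add_assoc, add_self_E C, add_zero, zero_add] at h5
    apply C.a_ne
    apply injective hirr (f + 1).2 (fun h4 => h3 (Subtype.ext h4))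
    show (f : Module.End (ZMod 2) V) a + a = 0
    rw [h2, C.add_self]

theorem finite_E (C : Cfg ρ b q a D X w) : Finite (E ρ L) := by
  have := C.finite_V
  have : Finite (V →ₗ[ZMod 2] V) := Finite.of_injective (fun g => (g : V → V)) DFunLike.coe_injective
  exact Subtype.finite

theorem card_le (C : Cfg ρ b q a D X w) (hL : L.Normal) (hirr : Ir ρ L) : Nat.card (E ρ L) ≤ 4 := by
  classical
  have := finite_E (L := L) C
  have := isDomain C hirr
  have : Fintype (E ρ L) := Fintype.ofFinite _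
  let _ := Fintype.divisionRingOfIsDomain (E ρ L)
  have h1 := Clif.card_le_sq (D := E ρ L) (add_self_E C) (fun x : X => sg C hL (x : H))
    (fun x f => sg_sg C hL x f)
  have h2 : Nat.card {f : E ρ L // ∀ x : X, sg C hL (x : H) f = f} ≤ 2 := by
    have hinj : Function.Injective
        (fun f : {f : E ρ L // ∀ x : X, sg C hL (x : H) f = f} =>
          if (f : E ρ L) = 0 then (0 : ZMod 2) else 1) := by
      rintro ⟨f, hf⟩ ⟨g, hg⟩ h
      apply Subtype.ext
      show f = g
      by_cases h3 : f = 0 <;> by_cases h4 : g = 0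
      · rw [h3, h4]
      · simp [h3, h4] at h
      · simp [h3, h4] at h
      · rw [(fix_eq C hirr hL hf).resolve_left h3, (fix_eq C hirr hL hg).resolve_left h4]
    have := Nat.card_le_card_of_injective _ hinj
    rwa [Nat.card_zmod] at this
  calc Nat.card (E ρ L) ≤ _ := h1
    _ ≤ 2 ^ 2 := Nat.pow_le_pow_left h2 2
    _ = 4 := by norm_num

/-- **`End_L(V)` is `F_2` or `F_4`.** -/
theorem shape (C : Cfg ρ b q a D X w) (hL : L.Normal)
    (hirr : ∀ W : Submodule (ZMod 2) V, (∀ l ∈ L, ∀ v ∈ W, ρ l v ∈ W) → W = ⊥ ∨ W = ⊤) :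
    (∀ f : V →ₗ[ZMod 2] V, (∀ l ∈ L, ∀ v, f (ρ l v) = ρ l (f v)) → f = 0 ∨ f = LinearMap.id) ∨
    ∃ ζ : V →ₗ[ZMod 2] V, (∀ v, ζ (ζ v) = ζ v + v) ∧
      (∀ f : V →ₗ[ZMod 2] V, (∀ l ∈ L, ∀ v, f (ρ l v) = ρ l (f v)) →
        f = 0 ∨ f = LinearMap.id ∨ f = ζ ∨ f = ζ + LinearMap.id) ∧
      (∀ l ∈ L, ∀ v, ζ (ρ l v) = ρ l (ζ v)) ∧
      (∀ h : H, (∀ v, ρ h (ζ v) = ζ (ρ h v)) ∨ (∀ v, ρ h (ζ v) = ζ (ρ h v) + ρ h v)) ∧
      ((∀ u v, b (ζ u) v = b u (ζ v)) ∨ (∀ u v, b (ζ u) v = b u (ζ v) + b u v)) := by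
  classical
  by_cases hall : ∀ f : V →ₗ[ZMod 2] V, (∀ l ∈ L, ∀ v, f (ρ l v) = ρ l (f v)) →
      f = 0 ∨ f = LinearMap.id
  · exact Or.inl hall
  right
  push Not at hall
  obtain ⟨ζ, hζ, hζ0, hζ1⟩ := hall
  have hfin := finite_E (L := L) C
  have hdom := isDomain C hirr
  let z : E ρ L := ⟨ζ, hζ⟩
  have hz0 : z ≠ 0 := fun h => hζ0 (congrArg Subtype.val h)
  have hz1 : z ≠ 1 := fun h => hζ1 (congrArg Subtype.val h)
  have h2 : ∀ x : E ρ L, x + x = 0 := add_self_E C
  have eq_of : ∀ {x y : E ρ L}, x + y = 0 → x = y := by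
    intro x y h
    have : x + y + y = 0 + y := by rw [h]
    rwa [add_assoc, h2, add_zero, zero_add] at this
  have hz2 : z + 1 ≠ 0 := fun h => hz1 (eq_of h)
  have hz3 : z + 1 ≠ 1 := fun h => hz0 (by
    have := add_right_cancel (h.trans (zero_add 1).symm)
    exact this)
  have hz4 : z + 1 ≠ z := fun h => one_ne_zero (add_left_cancel (h.trans (add_zero z).symm))
  -- the four elements
  have hfour : ∀ x : E ρ L, x = 0 ∨ x = 1 ∨ x = z ∨ x = z + 1 := by
    intro x
    by_contra hcon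
    push Not at hcon
    obtain ⟨hx0, hx1, hx2, hx3⟩ := hcon
    have : Fintype (E ρ L) := Fintype.ofFinite _
    have hc : ({0, 1, z, z + 1, x} : Finset (E ρ L)).card ≤ 4 := by
      calc _ ≤ Fintype.card (E ρ L) := Finset.card_le_univ _
        _ = Nat.card (E ρ L) := Nat.card_eq_fintype_card.symm
        _ ≤ 4 := card_le C hL hirr
    have hc2 : ({0, 1, z, z + 1, x} : Finset (E ρ L)).card = 5 := by
      rw [Finset.card_insert_of_notMem, Finset.card_insert_of_notMem, Finset.card_insert_of_notMem,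
        Finset.card_insert_of_notMem, Finset.card_singleton]
      · rw [Finset.mem_singleton]; exact fun h => hx3 h.symm
      · simp only [Finset.mem_insert, Finset.mem_singleton, not_or]
        exact ⟨fun h => hz4 h.symm, fun h => hx2 h.symm⟩
      · simp only [Finset.mem_insert, Finset.mem_singleton, not_or]
        exact ⟨fun h => hz1 h.symm, fun h => hz3 h.symm, fun h => hx1 h.symm⟩
      · simp only [Finset.mem_insert, Finset.mem_singleton, not_or]
        exact ⟨fun h => one_ne_zero h.symm, fun h => hz0 h.symm, fun h => hz2 h.symm,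
          fun h => hx0 h.symm⟩
    omega
  have sqE : ∀ x : E ρ L, x ≠ 0 → x ≠ 1 → x * x = x + 1 := by
    intro x hx0 hx1
    have key : ∀ y : E ρ L, y = 0 ∨ y = 1 ∨ y = x ∨ y = x + 1 := by
      intro y
      rcases hfour x with h | h | h | h
      · exact absurd h hx0
      · exact absurd h hx1
      · rw [h]; exact hfour y
      · rcases hfour y with g | g | g | g
        · exact Or.inl g
        · exact Or.inr (Or.inl g)
        · right; right; right
          rw [g, h, add_assoc, h2, add_zero]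
        · right; right; left
          rw [g, h]
    rcases key (x * x) with h | h | h | h
    · exact absurd (mul_self_eq_zero.1 h) hx0
    · exfalso
      apply hx1
      have h3 : (x + 1) * (x + 1) = 0 := by
        have : (x + 1) * (x + 1) = x * x + (x + x) + 1 := by noncomm_ring
        rw [this, h, h2, add_zero, h2]
      exact eq_of (mul_self_eq_zero.1 h3)
    · exfalso
      have h3 : x * (x + 1) = 0 := by rw [mul_add, mul_one, h, h2]
      rcases mul_eq_zero.1 h3 with h4 | h4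
      · exact hx0 h4
      · exact hx1 (eq_of h4)
    · exact h
  have hzz := sqE z hz0 hz1
  have hroot : ∀ x : E ρ L, x * x = x + 1 → x = z ∨ x = z + 1 := by
    intro x hx
    rcases hfour x with h | h | h | h
    · exfalso
      rw [h, mul_zero, zero_add] at hx
      exact one_ne_zero hx.symm
    · exfalso
      rw [h, mul_one] at hx
      exact one_ne_zero (add_left_cancel (hx.symm.trans (add_zero (1 : E ρ L)).symm))
    · exact Or.inl h
    · exact Or.inr h
  refine ⟨ζ, ?_, ?_, hζ, ?_, ?_⟩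
  · intro v
    exact congrArg (fun x : E ρ L => (x : Module.End (ZMod 2) V) v) hzz
  · intro f hf
    rcases hfour ⟨f, hf⟩ with h | h | h | h
    · exact Or.inl (congrArg Subtype.val h)
    · exact Or.inr (Or.inl (congrArg Subtype.val h))
    · exact Or.inr (Or.inr (Or.inl (congrArg Subtype.val h)))
    · exact Or.inr (Or.inr (Or.inr (congrArg Subtype.val h)))
  · intro h
    have h3 : sg C hL h z * sg C hL h z = sg C hL h z + 1 := by
      rw [← map_mul, hzz, map_add, map_one]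
    have h4 : ∀ v, (sg C hL h z : Module.End (ZMod 2) V) (ρ h v) = ρ h (ζ v) := by
      intro v
      rw [sg_apply, C.ρ_inv_apply]
    rcases hroot _ h3 with h5 | h5
    · left
      intro v
      rw [← h4 v, h5]
    · right
      intro v
      rw [← h4 v, h5]
      rfl
  · -- the adjoint
    have hVf := C.finite_V
    have : Module.Finite (ZMod 2) V := Module.Finite.of_finite
    let ζ' : V →ₗ[ZMod 2] V := b.leftAdjointOfNondegenerate C.nondegenerate ζ
    have hadj : ∀ u v, b (ζ' u) v = b u (ζ v) :=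
      b.isAdjointPairLeftAdjointOfNondegenerate C.nondegenerate ζ
    have hE : Cm ρ L ζ' := by
      intro l hl v
      have key : ∀ u, b (ζ' (ρ l v) + ρ l (ζ' v)) u = 0 := by
        intro u
        rw [map_add, LinearMap.add_apply, hadj]
        have e1 : b (ρ l (ζ' v)) u = b (ζ' v) (ρ l⁻¹ u) := by
          rw [← C.b_inv l⁻¹, C.ρ_inv_apply]
        have e2 : b (ρ l v) (ζ u) = b v (ρ l⁻¹ (ζ u)) := by
          rw [← C.b_inv l⁻¹, C.ρ_inv_apply]
        rw [e1, e2, hadj, hζ _ (L.inv_mem hl), CharTwo.add_self_eq_zero]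
      exact C.add_eq_zero.1 (C.nondeg _ key)
    let z' : E ρ L := ⟨ζ', hE⟩
    have h3 : z' * z' = z' + 1 := by
      apply Subtype.ext
      apply LinearMap.ext
      intro v
      show ζ' (ζ' v) = ζ' v + v
      apply C.add_eq_zero.1
      apply C.nondeg
      intro u
      have e : b (ζ' (ζ' v) + (ζ' v + v)) u = b v (ζ (ζ u)) + (b v (ζ u) + b v u) := by
        rw [map_add, map_add, LinearMap.add_apply, LinearMap.add_apply, hadj, hadj, hadj]
      have e2 : ζ (ζ u) = ζ u + u := congrArg (fun x : E ρ L => (x : Module.End (ZMod 2) V) u) hzz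
      rw [e, e2, map_add, CharTwo.add_self_eq_zero]
    rcases hroot _ h3 with h4 | h4
    · left
      have h5 : ζ' = ζ := congrArg Subtype.val h4
      intro u v
      rw [← hadj, h5]
    · right
      have h5 : ζ' = ζ + LinearMap.id := congrArg Subtype.val h4
      intro u v
      rw [← hadj, h5, LinearMap.add_apply, map_add, LinearMap.add_apply]
      show b (ζ u) v = b (ζ u) v + b u v + b u v
      rw [add_assoc, CharTwo.add_self_eq_zero, add_zero]

end Cfsg.Agent.Omega.EH3.Irr.Shape
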