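import Cfsg.Agent.Omega.EH3.Irr.Lem
import Cfsg.Agent.Omega.EH3.RowS.SpMain
import Cfsg.Agent.ClassicalGeometry.TwoFamilies

/-!
# THEOREM IRR of EH3: the case `V = U ⊕ g U`, `|End_L(U)| = 2` (helper40)

`x g x⁻¹ = g + d x` on `U` for `x ∈ X`, `d x ∈ {0, 1}`; `X₁ = ker d` has index two.  The form `be (u, v) = b u (g v)` on
`U` is alternating, `X₁` acts on `T = a^⊥` (for `be`) as all transvections with centre `a`.  `RowS.SpFam.main` gives a
quadratic form on `U` whose singular vectors are the orbit of `a` under the stabiliser `H₁` of `(U, g)`; some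
`β ∈ X - X₁` is the transvection with centre `a` on `U` and normalises `H₁`.
-/

set_option autoImplicit false

namespace Cfsg.Agent.Omega.EH3.Irr

open Module

variable {H V : Type*} [Group H] [AddCommGroup V] [Module (ZMod 2) V]
  {ρ : H →* (V ≃ₗ[ZMod 2] V)} {b : LinearMap.BilinForm (ZMod 2) V} {q : V → ZMod 2}
  {a : V} {D : Submodule (ZMod 2) V} {X : Subgroup H} {w : ℕ} {L : Subgroup H} {U : Submodule (ZMod 2) V}
  {g : V →ₗ[ZMod 2] V}

/-- `x` commutes with `g` on `U` -/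
def D0 (ρ : H →* (V ≃ₗ[ZMod 2] V)) (U : Submodule (ZMod 2) V) (g : V →ₗ[ZMod 2] V) (x : H) : Prop :=
  ∀ u ∈ U, ρ x (g u) = g (ρ x u)

/-- `x g x⁻¹ = g + 1` on `U` -/
def D1 (ρ : H →* (V ≃ₗ[ZMod 2] V)) (U : Submodule (ZMod 2) V) (g : V →ₗ[ZMod 2] V) (x : H) : Prop :=
  ∀ u ∈ U, ρ x (g u) = g (ρ x u) + ρ x u

namespace Two

variable (S : Two ρ b q a D X w L U g)

include S

theorem dich (hE : E2 ρ L U) {x : H} (hx : x ∈ X) : D0 ρ U g x ∨ D1 ρ U g x := by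
  obtain ⟨e, e', he, he', heU, heU', hf⟩ := S.exists_dec (S.toBase.cj_map S.g_map hx)
  have h1 : ∀ u, ρ x (g u) = e (ρ x u) + g (e' (ρ x u)) := by
    intro u
    have h2 := hf (ρ x u)
    rwa [cj_apply, S.cfg.ρ_inv_apply] at h2
  rcases hE e' he' heU' with h0 | h0
  · exfalso
    have h2 := h1 a
    rw [S.cfg.X_a hx, h0 a S.a_mem, map_zero, add_zero] at h2
    have h3 : g a ∈ U := by
      rw [← S.toBase.xx hx (g a), h2]
      exact S.X_inv x hx _ (heU a S.a_mem)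
    exact S.cfg.a_ne (S.g_inj a S.a_mem h3)
  · rcases hE e he heU with h | h
    · left
      intro u hu
      have hu' := S.X_inv x hx u hu
      rw [h1, h _ hu', h0 _ hu', zero_add]
    · right
      intro u hu
      have hu' := S.X_inv x hx u hu
      rw [h1, h _ hu', h0 _ hu', add_comm]

theorem D1_mul {x y : H} (hx : D1 ρ U g x) (hy : D1 ρ U g y) (hyX : y ∈ X) : D0 ρ U g (x * y) := by
  intro u hu
  have hu' := S.X_inv y hyX u hu
  rw [S.cfg.ρ_mul, hy u hu, map_add, hx _ hu', S.cfg.add_add_self, S.cfg.ρ_mul]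

/-- not every element of `X` commutes with `g` -/
theorem exists_D1 (hE : E2 ρ L U) : ∃ α ∈ X, D1 ρ U g α := by
  by_contra hcon
  push Not at hcon
  have h1 : ∀ x ∈ X, ρ x (g a) = g a := by
    intro x hx
    have h2 := (S.dich hE hx).resolve_right (hcon x hx)
    rw [h2 a S.a_mem, S.cfg.X_a hx]
  rcases S.cfg.fix_X h1 with h | h
  · exact S.cfg.a_ne (S.g_inj a S.a_mem (by rw [h]; exact U.zero_mem))
  · exact S.cfg.a_ne (S.g_inj a S.a_mem (by rw [h]; exact S.a_mem))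

/-- a conjugate `h U ≠ U` is `g U` or `(g + 1) U` -/
theorem exists_conj (hE : E2 ρ L U) : ∃ h : H, (∀ u ∈ U, ∃ v ∈ U, ρ h v = g u) ∨
    ∀ u ∈ U, ∃ v ∈ U, ρ h v = g u + u := by
  have := S.cfg.finite_V
  -- `h U ≠ U`
  obtain ⟨h, hh⟩ : ∃ h : H, ∃ v ∈ U, ρ h v ∉ U := by
    by_contra hcon
    push Not at hcon
    rcases S.cfg.irr U hcon with h | h
    · exact S.simple.ne h
    · exact S.ne_top h
  obtain ⟨v₀, hv₀, hv₀'⟩ := hh
  refine ⟨h, ?_⟩
  have hW := S.simple.conj S.nor h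
  have hinf : U.map (ρ h : V →ₗ[ZMod 2] V) ⊓ U = ⊥ := by
    rcases hW.min _ inf_le_left (fun l hl v hv => ⟨hW.inv l hl v hv.1, S.simple.inv l hl v hv.2⟩) with h1 | h1
    · exact h1
    · exfalso
      apply hv₀'
      have h2 : ρ h v₀ ∈ U.map (ρ h : V →ₗ[ZMod 2] V) := ⟨v₀, hv₀, rfl⟩
      rw [← h1] at h2
      exact h2.2
  obtain ⟨p, r, hp, hr, hpr, hpl, hrl⟩ := S.exists_proj
  -- `r` is bijective from `h U` to `U`
  have hrU : ∀ u ∈ U, p u = u ∧ r u = 0 := by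
    intro u hu
    have h1 := S.uniq (hp u) (hr u) hu U.zero_mem (by rw [← hpr, map_zero, add_zero])
    exact h1
  let R : ↥U →ₗ[ZMod 2] ↥U :=
    { toFun := fun u => ⟨r (ρ h u), hr _⟩
      map_add' := fun u v => Subtype.ext (by simp)
      map_smul' := fun c u => Subtype.ext (by simp) }
  have hR : ∀ u : ↥U, (R u : V) = r (ρ h u) := fun _ => rfl
  have hinj : Function.Injective R := by
    rw [injective_iff_map_eq_zero]
    intro u hu
    have h1 : r (ρ h u) = 0 := by rw [← hR, hu]; rfl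
    have h2 : ρ h u ∈ U := by
      rw [hpr (ρ h u), h1, map_zero, add_zero]
      exact hp _
    have h3 : ρ h u ∈ U.map (ρ h : V →ₗ[ZMod 2] V) ⊓ U := ⟨⟨u, u.2, rfl⟩, h2⟩
    rw [hinf, Submodule.mem_bot] at h3
    exact Subtype.ext ((LinearEquiv.map_eq_zero_iff _).1 h3)
  have hsurj : Function.Surjective R := Finite.injective_iff_surjective.1 hinj
  let Re : ↥U ≃ₗ[ZMod 2] ↥U := LinearEquiv.ofBijective R ⟨hinj, hsurj⟩
  have hRe : ∀ u : ↥U, r (ρ h (Re.symm u)) = u := by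
    intro u
    rw [← hR]
    have h1 : R (Re.symm u) = u := Re.apply_symm_apply u
    rw [h1]
  -- the endomorphism `p ∘ r⁻¹` of `U`
  let f : V →ₗ[ZMod 2] V :=
    p ∘ₗ (ρ h : V →ₗ[ZMod 2] V) ∘ₗ U.subtype ∘ₗ (Re.symm : ↥U →ₗ[ZMod 2] ↥U) ∘ₗ p.codRestrict U hp
  have hf : ∀ u (hu : u ∈ U), f u = p (ρ h (Re.symm ⟨u, hu⟩)) := by
    intro u hu
    have h1 : p.codRestrict U hp u = ⟨u, hu⟩ := Subtype.ext (hrU u hu).1
    show p (ρ h (Re.symm (p.codRestrict U hp u))) = _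
    rw [h1]
  have hval : ∀ u (hu : u ∈ U), ρ h (Re.symm ⟨u, hu⟩) = f u + g u := by
    intro u hu
    rw [hf u hu]
    have h1 := hpr (ρ h (Re.symm ⟨u, hu⟩))
    rw [hRe ⟨u, hu⟩] at h1
    exact h1
  have hfL : LMap ρ L U f := by
    intro l hl u hu
    have hlu := S.simple.inv l hl u hu
    -- `l (r⁻¹ u) = r⁻¹ (l u)`
    obtain ⟨v, hv, hvl⟩ : ∃ v ∈ U, ρ h v = ρ l (ρ h (Re.symm ⟨u, hu⟩)) :=
      hW.inv l hl _ ⟨Re.symm ⟨u, hu⟩, (Re.symm ⟨u, hu⟩).2, rfl⟩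
    have h1 : R ⟨v, hv⟩ = ⟨ρ l u, hlu⟩ := by
      apply Subtype.ext
      rw [hR]
      show r (ρ h v) = ρ l u
      rw [hvl, hrl l hl, hRe]
    have h2 : Re.symm ⟨ρ l u, hlu⟩ = ⟨v, hv⟩ := by
      rw [← h1]
      exact Re.symm_apply_apply _
    rw [hf _ hlu, hf u hu, h2]
    show p (ρ h v) = _
    rw [hvl, hpl l hl]
  rcases hE f hfL (fun u hu => by rw [hf u hu]; exact hp _) with h1 | h1
  · left
    intro u hu
    refine ⟨Re.symm ⟨u, hu⟩, (Re.symm ⟨u, hu⟩).2, ?_⟩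
    rw [hval u hu, h1 u hu, zero_add]
  · right
    intro u hu
    refine ⟨Re.symm ⟨u, hu⟩, (Re.symm ⟨u, hu⟩).2, ?_⟩
    rw [hval u hu, h1 u hu, add_comm]

/-- `g U` and `(g + 1) U` are totally singular -/
theorem q_both (hE : E2 ρ L U) : (∀ u ∈ U, q (g u) = 0) ∧ ∀ u ∈ U, q (g u + u) = 0 := by
  obtain ⟨α, hα, hα1⟩ := S.exists_D1 hE
  obtain ⟨h, h1 | h1⟩ := S.exists_conj hE
  · have h2 : ∀ u ∈ U, q (g u) = 0 := by
      intro u hu
      obtain ⟨v, hv, h3⟩ := h1 u hu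
      rw [← h3, S.cfg.q_inv]
      exact S.q_U hv
    refine ⟨h2, fun u hu => ?_⟩
    have h3 := hα1 (ρ α u) (S.X_inv α hα u hu)
    rw [S.toBase.xx hα] at h3
    rw [← h3, S.cfg.q_inv]
    exact h2 _ (S.X_inv α hα u hu)
  · have h2 : ∀ u ∈ U, q (g u + u) = 0 := by
      intro u hu
      obtain ⟨v, hv, h3⟩ := h1 u hu
      rw [← h3, S.cfg.q_inv]
      exact S.q_U hv
    refine ⟨fun u hu => ?_, h2⟩
    rw [← S.cfg.q_inv α, hα1 u hu]
    exact h2 _ (S.X_inv α hα u hu)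

/-- `be` is alternating -/
theorem be_self (hE : E2 ρ L U) {u : V} (hu : u ∈ U) : b u (g u) = 0 := by
  have h1 := (S.q_both hE).2 u hu
  rw [S.cfg.q_add, (S.q_both hE).1 u hu, S.q_U hu, zero_add, zero_add] at h1
  rw [S.cfg.b_comm]
  exact h1

theorem be_comm (hE : E2 ρ L U) {u v : V} (hu : u ∈ U) (hv : v ∈ U) : b u (g v) = b v (g u) := by
  have h1 := S.be_self hE (U.add_mem hu hv)
  rw [map_add, map_add, map_add, LinearMap.add_apply, LinearMap.add_apply, S.be_self hE hu, S.be_self hE hv,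
    zero_add, add_zero] at h1
  exact (CharTwo.add_eq_zero.1 h1).symm

/-- `C_U(X₁) = {0, a}` -/
theorem fixU (hE : E2 ρ L U) {u : V} (hu : u ∈ U) (h : ∀ x ∈ X, D0 ρ U g x → ρ x u = u) : u = 0 ∨ u = a := by
  have C := S.cfg
  obtain ⟨α, hα, hα1⟩ := S.exists_D1 hE
  -- `α u + u` is fixed by `X`
  have key : ∀ v, (∀ x ∈ X, D0 ρ U g x → ρ x v = v) → ρ α v = v → v = 0 ∨ v = a := by
    intro v hv hαv
    apply C.fix_X
    intro x hx
    rcases S.dich hE hx with h0 | h1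
    · exact hv x hx h0
    · have h2 := hv _ (X.mul_mem hx hα) (S.D1_mul h1 hα1 hα)
      rwa [C.ρ_mul, hαv] at h2
  have hd : ρ α u + u = 0 ∨ ρ α u + u = a := by
    apply key
    · intro x hx hx0
      rw [map_add, ← C.ρ_mul, C.X_comm hx hα, C.ρ_mul, h x hx hx0]
    · rw [map_add, S.toBase.xx hα, add_comm]
  rcases hd with hd | hd
  · exact key u h (C.add_eq_zero.1 hd)
  · exfalso
    have h1 : ρ α u = a + u := by rw [← hd, C.add_add_self]
    have h2 : u + g a = 0 ∨ u + g a = a := by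
      apply key
      · intro x hx hx0
        rw [map_add, h x hx hx0, hx0 a S.a_mem, C.X_a hx]
      · rw [map_add, hα1 a S.a_mem, C.X_a hα, h1]
        calc a + u + (g a + a) = u + g a + a + a := by abel
          _ = u + g a := C.add_add_self _ _
    have h3 : g a ∈ U := by
      have h4 : g a = (u + g a) + u := by
        rw [add_comm u, C.add_add_self]
      rw [h4]
      rcases h2 with h2 | h2
      · rw [h2, zero_add]; exact hu
      · rw [h2]; exact U.add_mem S.a_mem hu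
    exact C.a_ne (S.g_inj a S.a_mem h3)

/-- `[T, X₁] ≤ ⟨a⟩` -/
theorem T_X1 (hE : E2 ρ L U) {u : V} (hu : u ∈ U) (hT : b a (g u) = 0) {x : H} (hx : x ∈ X)
    (h0 : D0 ρ U g x) : ρ x u + u = 0 ∨ ρ x u + u = a := by
  have C := S.cfg
  have hxu := S.X_inv x hx u hu
  refine S.fixU hE (U.add_mem hxu hu) ?_
  intro y hy hy0
  have h1 : ρ x (g u) + g u ∈ D := C.X_perp x hx _ hT
  have h2 := C.X_D y hy _ h1
  have h3 : ρ x (g u) + g u = g (ρ x u + u) := by rw [h0 u hu, map_add]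
  rw [h3, hy0 _ (U.add_mem hxu hu)] at h2
  have hc : ρ y (ρ x u + u) ∈ U := S.X_inv y hy _ (U.add_mem hxu hu)
  have h4 : g (ρ y (ρ x u + u) - (ρ x u + u)) ∈ U := by
    rw [map_sub]
    rcases h2 with h2 | h2
    · rw [h2, sub_self]; exact U.zero_mem
    · rw [h2, add_sub_cancel_left]; exact S.a_mem
  have h5 := S.g_inj _ (U.sub_mem hc (U.add_mem hxu hu)) h4
  exact sub_eq_zero.1 h5

/-- `[T, X] ≤ ⟨a⟩` -/
theorem T_X (hE : E2 ρ L U) {u : V} (hu : u ∈ U) (hT : b a (g u) = 0) {x : H} (hx : x ∈ X) :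
    ρ x u + u = 0 ∨ ρ x u + u = a := by
  have C := S.cfg
  have hxu := S.X_inv x hx u hu
  refine S.fixU hE (U.add_mem hxu hu) ?_
  intro y hy hy0
  rw [map_add, ← C.ρ_mul, C.X_comm hy hx, C.ρ_mul]
  rcases S.T_X1 hE hu hT hy hy0 with h1 | h1
  · rw [C.add_eq_zero.1 h1]
  · have h2 : ρ y u = a + u := by rw [← h1, C.add_add_self]
    rw [h2, map_add, C.X_a hx]
    calc a + ρ x u + (a + u) = ρ x u + u + a + a := by abel
      _ = ρ x u + u := C.add_add_self _ _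

/-- `T ≤ D` -/
theorem T_D (hE : E2 ρ L U) {u : V} (hu : u ∈ U) (hT : b a (g u) = 0) : u ∈ D := by
  apply S.cfg.mem_D_of_fix_mod
  intro x hx
  rcases S.T_X hE hu hT hx with h | h
  · exact ⟨0, by rw [h, zero_smul]⟩
  · exact ⟨1, by rw [h, one_smul]⟩

/-- some vector of `U` is not in `T` -/
theorem exists_notT : ∃ v ∈ U, b a (g v) = 1 := by
  by_contra hcon
  push Not at hcon
  apply S.cfg.a_ne
  apply S.nondeg_left S.a_mem
  intro v hv
  rcases zmod_two (b a (g v)) with h | h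
  · exact h
  · exact absurd h (hcon v hv)

/-- `T^⊥ = {0, a}` in `U` -/
theorem perp_T {c : V} (hc : c ∈ U) (h : ∀ v ∈ U, b a (g v) = 0 → b c (g v) = 0) : c = 0 ∨ c = a := by
  have C := S.cfg
  obtain ⟨v₁, hv₁, h1⟩ := S.exists_notT
  have hv : ∀ v ∈ U, b a (g v) = 1 → b c (g v) = b c (g v₁) := by
    intro v hv hv1
    have h2 := h (v + v₁) (U.add_mem hv hv₁) (by rw [map_add, map_add, hv1, h1]; decide)
    rw [map_add, map_add] at h2
    exact CharTwo.add_eq_zero.1 h2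
  rcases zmod_two (b c (g v₁)) with h2 | h2
  · left
    apply S.nondeg_left hc
    intro v hvU
    rcases zmod_two (b a (g v)) with h3 | h3
    · exact h v hvU h3
    · rw [hv v hvU h3, h2]
  · right
    rw [← C.add_eq_zero]
    apply S.nondeg_left (U.add_mem hc S.a_mem)
    intro v hvU
    rw [map_add, LinearMap.add_apply]
    rcases zmod_two (b a (g v)) with h3 | h3
    · rw [h v hvU h3, h3]; rfl
    · rw [hv v hvU h3, h2, h3]; decide

/-- `X₁` is faithful on `T` -/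
theorem faith_T {x : H} (hx : x ∈ X) (h0 : D0 ρ U g x)
    (h : ∀ v ∈ U, b a (g v) = 0 → ρ x v = v) : x = 1 := by
  have C := S.cfg
  by_contra hne
  obtain ⟨v, hv, hv0, hva⟩ := C.X_T x hx hne
  obtain ⟨u, hu, u', hu', rfl⟩ := S.dec v
  rw [map_add, S.b_a hu, zero_add] at hv
  have h1 : ρ x (u + g u') + (u + g u') = ρ x u + u := by
    rw [map_add, h0 u' hu', h u' hu' hv]
    calc ρ x u + g u' + (u + g u') = ρ x u + u + g u' + g u' := by abel
      _ = ρ x u + u := C.add_add_self _ _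
  rw [h1] at hv0 hva
  have hxu := S.X_inv x hx u hu
  rcases S.perp_T (U.add_mem hxu hu) (fun t ht hT => by
    have h2 : b (ρ x u) (g t) = b u (g t) := by
      nth_rewrite 1 [← h t ht hT]
      rw [← h0 t ht, C.b_inv]
    rw [map_add, LinearMap.add_apply, h2]
    exact CharTwo.add_self_eq_zero _) with h2 | h2
  · exact hv0 h2
  · exact hva h2

/-- an element `β ∈ X - X₁` trivial on `T` -/
theorem exists_beta (hE : E2 ρ L U) : ∃ β ∈ X, D1 ρ U g β ∧ ∀ v ∈ U, b a (g v) = 0 → ρ β v = v := by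
  have C := S.cfg
  have := C.finite_V
  let T : Submodule (ZMod 2) V := U ⊓ LinearMap.ker (b a ∘ₗ g)
  have hmem : ∀ v, v ∈ T ↔ v ∈ U ∧ b a (g v) = 0 := fun v => Iff.rfl
  obtain ⟨v₁, hv₁, h1⟩ := S.exists_notT
  -- a vector of `D` outside `T`
  obtain ⟨d, hd, hdT⟩ : ∃ d ∈ D, d ∉ T := by
    by_contra hcon
    push Not at hcon
    have h2 : D ≤ U := fun d hd => ((hmem d).1 (hcon d hd)).1
    have h3 : (D : Set V) = U := by
      apply Set.eq_of_subset_of_ncard_le h2 _ (Set.toFinite _)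
      rw [← Nat.card_coe_set_eq, ← Nat.card_coe_set_eq]
      exact (S.card_U.trans C.card_D.symm).le
    have h4 : v₁ ∈ D := by
      have : v₁ ∈ (U : Set V) := hv₁
      rw [← h3] at this
      exact this
    have h5 := ((hmem v₁).1 (hcon v₁ h4)).2
    rw [h1] at h5
    exact one_ne_zero h5
  obtain ⟨u, hu, hdu⟩ : ∃ u, (∀ t ∈ T, b t u = 0) ∧ b u d ≠ 0 := by
    by_contra hcon
    push Not at hcon
    exact hdT (C.mem_of_perp T fun u hu => hcon u hu)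
  obtain ⟨x, hx, hxd⟩ := C.X_all (b u) (by
    rw [C.b_comm]
    exact hu a ((hmem a).2 ⟨S.a_mem, S.be_self hE S.a_mem⟩))
  have hxT : ∀ v ∈ U, b a (g v) = 0 → ρ x v = v := by
    intro v hv hvT
    rw [hxd v (S.T_D hE hv hvT), C.b_comm, hu v ((hmem v).2 ⟨hv, hvT⟩), zero_smul, add_zero]
  refine ⟨x, hx, (S.dich hE hx).resolve_left ?_, hxT⟩
  intro h0
  have h2 := S.faith_T hx h0 hxT
  have h3 := hxd d hd
  rw [h2, C.ρ_one, zmod_two_ne hdu, one_smul] at h3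
  exact C.a_ne (left_eq_add.1 h3)

/-- `X₁` induces all transvections of `T` with centre `a` -/
theorem surj_T (hE : E2 ρ L U) {y : V} (hy : y ∈ U) (hT : b a (g y) = 0) :
    ∃ x ∈ X, D0 ρ U g x ∧ ∀ v ∈ U, b a (g v) = 0 → ρ x v = v + b y (g v) • a := by
  have C := S.cfg
  obtain ⟨β, hβ, hβ1, hβT⟩ := S.exists_beta hE
  obtain ⟨x, hx, hxd⟩ := C.X_all (b y ∘ₗ g) (by
    show b y (g a) = 0
    rw [S.be_comm hE hy S.a_mem, hT])
  have hxT : ∀ v ∈ U, b a (g v) = 0 → ρ x v = v + b y (g v) • a := fun v hv hvT =>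
    hxd v (S.T_D hE hv hvT)
  rcases S.dich hE hx with h0 | h1
  · exact ⟨x, hx, h0, hxT⟩
  · refine ⟨x * β, X.mul_mem hx hβ, S.D1_mul h1 hβ1 hβ, fun v hv hvT => ?_⟩
    rw [C.ρ_mul, hβT v hv hvT, hxT v hv hvT]

end Two

/-- the form `be` -/
def be (b : LinearMap.BilinForm (ZMod 2) V) (g : V →ₗ[ZMod 2] V) (U : Submodule (ZMod 2) V) :
    LinearMap.BilinForm (ZMod 2) ↥U :=
  LinearMap.mk₂ (ZMod 2) (fun u v : ↥U => b (u : V) (g v))
    (fun u u' v => by simp) (fun c u v => by simp) (fun u v v' => by simp) (fun c u v => by simp)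

theorem be_apply (u v : ↥U) : be b g U u v = b (u : V) (g v) := rfl

/-! ### the group `H₁` -/

/-- the stabiliser of `(U, g)` -/
def St (S : Two ρ b q a D X w L U g) : Subgroup H where
  carrier := {h | (∀ u ∈ U, ρ h u ∈ U) ∧ (∀ u ∈ U, ρ h⁻¹ u ∈ U) ∧ D0 ρ U g h}
  one_mem' := by
    refine ⟨fun u hu => ?_, fun u hu => ?_, fun u hu => ?_⟩
    · rw [S.cfg.ρ_one]; exact hu
    · rw [inv_one, S.cfg.ρ_one]; exact hu
    · rw [S.cfg.ρ_one, S.cfg.ρ_one]
  mul_mem' := by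
    rintro x y ⟨hx1, hx2, hx3⟩ ⟨hy1, hy2, hy3⟩
    refine ⟨fun u hu => ?_, fun u hu => ?_, fun u hu => ?_⟩
    · rw [S.cfg.ρ_mul]; exact hx1 _ (hy1 u hu)
    · rw [mul_inv_rev, S.cfg.ρ_mul]; exact hy2 _ (hx2 u hu)
    · rw [S.cfg.ρ_mul, hy3 u hu, hx3 _ (hy1 u hu), S.cfg.ρ_mul]
  inv_mem' := by
    rintro x ⟨hx1, hx2, hx3⟩
    refine ⟨hx2, fun u hu => by rw [inv_inv]; exact hx1 u hu, fun u hu => ?_⟩
    apply S.cfg.ρ_inj x
    rw [S.cfg.ρ_apply_inv, hx3 _ (hx2 u hu), S.cfg.ρ_apply_inv]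

namespace Two

variable (S : Two ρ b q a D X w L U g)

/-- the restriction to `U` -/
def res : ↥(St S) →* (↥U ≃ₗ[ZMod 2] ↥U) where
  toFun h :=
    { toFun := fun u => ⟨ρ h u, h.2.1 u u.2⟩
      map_add' := fun u v => Subtype.ext (by simp)
      map_smul' := fun c u => Subtype.ext (by simp)
      invFun := fun u => ⟨ρ (h : H)⁻¹ u, h.2.2.1 u u.2⟩
      left_inv := fun u => Subtype.ext (S.cfg.ρ_inv_apply _ _)
      right_inv := fun u => Subtype.ext (S.cfg.ρ_apply_inv _ _) }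
  map_one' := LinearEquiv.ext fun u => Subtype.ext (S.cfg.ρ_one _)
  map_mul' x y := LinearEquiv.ext fun u => Subtype.ext (S.cfg.ρ_mul _ _ _)

theorem res_apply (h : ↥(St S)) (u : ↥U) : ((S.res h) u : V) = ρ h u := rfl

/-- the elements of `X` in `H₁`, conjugated to `p` -/
def XK (p : ↥U) : Subgroup ↥(St S) where
  carrier := {y | ∀ h : ↥(St S), ρ h a = p → ((h : H)⁻¹ * y * h) ∈ X}
  one_mem' := fun h _ => by
    rw [OneMemClass.coe_one, mul_one, inv_mul_cancel]; exact X.one_mem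
  mul_mem' := by
    intro x y hx hy h hh
    have h1 := X.mul_mem (hx h hh) (hy h hh)
    have h2 : (h : H)⁻¹ * x * h * ((h : H)⁻¹ * y * h) = (h : H)⁻¹ * ((x * y : ↥(St S)) : H) * h := by
      rw [Subgroup.coe_mul]; group
    rwa [h2] at h1
  inv_mem' := by
    intro x hx h hh
    have h1 := X.inv_mem (hx h hh)
    have h2 : ((h : H)⁻¹ * x * h)⁻¹ = (h : H)⁻¹ * ((x⁻¹ : ↥(St S)) : H) * h := by
      rw [Subgroup.coe_inv]; group
    rwa [h2] at h1

theorem mem_XK {p : ↥U} {y : ↥(St S)} : y ∈ S.XK p ↔ ∀ h : ↥(St S), ρ h a = p → ((h : H)⁻¹ * y * h) ∈ X :=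
  Iff.rfl

/-- one conjugating element is enough -/
theorem mem_XK_of {p : ↥U} {y h₀ : ↥(St S)} (h : ρ h₀ a = p) (hy : ((h₀ : H)⁻¹ * y * h₀) ∈ X) :
    y ∈ S.XK p := by
  have C := S.cfg
  intro k hk
  have h1 : ρ ((k : H)⁻¹ * h₀) a = a := by
    rw [C.ρ_mul, h, ← hk, C.ρ_inv_apply]
  have h2 := C.X_norm _ h1 _ hy
  have h3 : (k : H)⁻¹ * h₀ * ((h₀ : H)⁻¹ * y * h₀) * ((k : H)⁻¹ * h₀)⁻¹ = (k : H)⁻¹ * y * k := by group
  rwa [h3] at h2

theorem st_iso (h : ↥(St S)) {u v : V} (hv : v ∈ U) : b (ρ h u) (g (ρ h v)) = b u (g v) := by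
  rw [← h.2.2.2 v hv, S.cfg.b_inv]

/-- the orbit of `a` -/
def Ob : Set ↥U := {p | ∃ h : ↥(St S), ρ h a = p}

theorem mem_Ob {p : ↥U} : p ∈ S.Ob ↔ ∃ h : ↥(St S), ρ h a = p := Iff.rfl

include S in
theorem alt (hE : E2 ρ L U) : Cfsg.Agent.LargeExtra.SiegFam.Lin.Alt (be b g U) := by
  have := S.cfg.finite_V
  have hfd : FiniteDimensional (ZMod 2) ↥U := Module.Finite.of_finite
  have hself : ∀ v : ↥U, be b g U v v = 0 := fun v => S.be_self hE v.2
  have hnd : ∀ v : ↥U, (∀ u, be b g U v u = 0) → v = 0 := fun v hv =>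
    Subtype.ext (S.nondeg_left v.2 fun u hu => hv ⟨u, hu⟩)
  refine ⟨inferInstance, hnd, hself, ?_⟩
  obtain ⟨m, hm⟩ := Cfsg.Agent.ClassicalGeometry.TwoFamilies.exists_finrank_eq_ker_add (be b g U) hself
  have hker : LinearMap.ker (be b g U) = ⊥ := by
    rw [LinearMap.ker_eq_bot']
    intro v hv
    exact hnd v fun w => by rw [hv]; rfl
  rw [hker, finrank_bot, zero_add] at hm
  exact ⟨m, hm⟩

theorem fam (hE : E2 ρ L U) :
    RowS.SpFam (be b g U) S.res.range S.Ob (fun p => (S.XK p).map S.res) := by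
  have C := S.cfg
  have := C.finite_V
  have hfd : FiniteDimensional (ZMod 2) ↥U := Module.Finite.of_finite
  have A := S.alt hE
  -- the elements of `XK p`
  have hXK : ∀ {p : ↥U} {y : ↥(St S)}, y ∈ S.XK p → ∀ h : ↥(St S), ρ h a = p →
      ((h : H)⁻¹ * y * h) ∈ X ∧ D0 ρ U g ((h : H)⁻¹ * y * h) ∧ ∀ v, ρ y v = ρ h (ρ ((h : H)⁻¹ * y * h) (ρ (h : H)⁻¹ v)) := by
    intro p y hy h hh
    refine ⟨hy h hh, (h⁻¹ * y * h : ↥(St S)).2.2.2, fun v => ?_⟩
    rw [← C.ρ_mul, ← C.ρ_mul]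
    congr 2
    group
  refine
    { alt := A
      dim := ?_
      f_H := ?_
      ne := ⟨⟨a, S.a_mem⟩, 1, C.ρ_one a⟩
      zero := ?_
      stable := ?_
      trans := ?_
      X_le := ?_
      X_map := ?_
      X_fix := ?_
      X_perp := ?_
      X_tv := ?_
      X_surj := ?_
      span := ?_ }
  · have h1 : Nat.card ↥U = Nat.card (ZMod 2) ^ finrank (ZMod 2) ↥U := Module.natCard_eq_pow_finrank
    rw [S.card_U, Nat.card_zmod] at h1
    have h2 := Nat.pow_right_injective (le_refl 2) h1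
    have h3 := C.five
    obtain ⟨m, hm⟩ := A.even
    omega
  · rintro _ ⟨h, rfl⟩ u v
    exact S.st_iso h v.2
  · rintro p ⟨h, hh⟩ h0
    rw [h0] at hh
    exact C.a_ne ((LinearEquiv.map_eq_zero_iff _).1 hh)
  · rintro _ ⟨h, rfl⟩ p ⟨k, hk⟩
    exact ⟨h * k, by rw [res_apply, ← hk, Subgroup.coe_mul, C.ρ_mul]⟩
  · rintro p ⟨h, hh⟩ p' ⟨h', hh'⟩
    refine ⟨S.res (h' * h⁻¹), ⟨_, rfl⟩, Subtype.ext ?_⟩
    rw [res_apply, Subgroup.coe_mul, Subgroup.coe_inv, C.ρ_mul, ← hh, C.ρ_inv_apply, hh']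
  · rintro p - _ ⟨y, -, rfl⟩
    exact ⟨y, rfl⟩
  · rintro _ ⟨h, rfl⟩ p ⟨k, hk⟩ _ ⟨y, hy, rfl⟩
    refine ⟨h * y * h⁻¹, ?_, by rw [map_mul, map_mul, map_inv]⟩
    refine S.mem_XK_of (h₀ := h * k) ?_ ?_
    · rw [Subgroup.coe_mul, C.ρ_mul, hk, res_apply]
    · have h1 := hy k hk
      have h2 : (k : H)⁻¹ * y * k = ((h * k : ↥(St S)) : H)⁻¹ * ((h * y * h⁻¹ : ↥(St S)) : H) * ((h * k : ↥(St S)) : H) := by
        rw [Subgroup.coe_mul, Subgroup.coe_mul, Subgroup.coe_mul, Subgroup.coe_inv]; group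
      rwa [h2] at h1
  · rintro p ⟨k, hk⟩ _ ⟨y, hy, rfl⟩
    obtain ⟨h1, h2, h3⟩ := hXK hy k hk
    apply Subtype.ext
    rw [res_apply, h3, ← hk, C.ρ_inv_apply, C.X_a h1]
  · rintro p ⟨k, hk⟩ _ ⟨y, hy, rfl⟩ u hu
    obtain ⟨h1, h2, h3⟩ := hXK hy k hk
    have hku := k.2.2.1 u u.2
    have h4 : b a (g (ρ (k : H)⁻¹ u)) = 0 := by
      rw [← S.st_iso k hku, hk, C.ρ_apply_inv]
      exact hu
    rcases S.T_X1 hE hku h4 h1 h2 with h5 | h5
    · left
      apply Subtype.ext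
      rw [res_apply, h3, C.add_eq_zero.1 h5, C.ρ_apply_inv]
    · right
      apply Subtype.ext
      have h6 : ρ ((k : H)⁻¹ * y * k) (ρ (k : H)⁻¹ u) = a + ρ (k : H)⁻¹ u :=
        (C.add_add_self _ _).symm.trans (congrArg (· + ρ (k : H)⁻¹ (u : V)) h5)
      rw [res_apply, h3, h6, map_add, C.ρ_apply_inv, hk, add_comm]
      rfl
  · rintro p ⟨k, hk⟩ _ ⟨y, hy, rfl⟩ h
    obtain ⟨h1, h2, h3⟩ := hXK hy k hk
    have h4 : (k : H)⁻¹ * y * k = 1 := by
      apply S.faith_T h1 h2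
      intro v hv hT
      have hkv := k.2.1 v hv
      have h5 := h ⟨ρ k v, hkv⟩ (by
        show b (p : V) (g (ρ k v)) = 0
        rw [← hk, S.st_iso k hv, hT])
      have h6 := congrArg Subtype.val h5
      rw [res_apply] at h6
      change ρ y (ρ k v) = ρ k v at h6
      rw [C.ρ_mul, C.ρ_mul, h6, C.ρ_inv_apply]
    have h5 : y = 1 := by
      apply Subtype.ext
      have h6 : (y : H) = k * ((k : H)⁻¹ * y * k) * (k : H)⁻¹ := by group
      rw [h6, h4]; simp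
    rw [h5, map_one]
  · rintro p ⟨k, hk⟩ y hy
    have hky := k.2.2.1 y y.2
    obtain ⟨x, hx, hx0, hxT⟩ := S.surj_T hE hky (by
      rw [← S.st_iso k hky, hk, C.ρ_apply_inv]
      exact hy)
    have hxS : x ∈ St S := ⟨fun u hu => S.X_inv x hx u hu, fun u hu => S.X_inv _ (X.inv_mem hx) u hu, hx0⟩
    refine ⟨S.res (k * ⟨x, hxS⟩ * k⁻¹), ⟨_, ?_, rfl⟩, ?_⟩
    · refine S.mem_XK_of (h₀ := k) hk ?_
      have h2 : (k : H)⁻¹ * ((k * ⟨x, hxS⟩ * k⁻¹ : ↥(St S)) : H) * k = x := by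
        rw [Subgroup.coe_mul, Subgroup.coe_mul, Subgroup.coe_inv]; group
      rw [h2]
      exact hx
    · intro u hu
      have hku := k.2.2.1 u u.2
      apply Subtype.ext
      rw [res_apply, Subgroup.coe_mul, Subgroup.coe_mul, Subgroup.coe_inv, C.ρ_mul, C.ρ_mul]
      show ρ k (ρ x (ρ (k : H)⁻¹ u)) = u + b (y : V) (g u) • (p : V)
      rw [hxT _ hku (by rw [← S.st_iso k hku, hk, C.ρ_apply_inv]; exact hu), map_add, map_smul, C.ρ_apply_inv,
        hk, ← S.st_iso k hku, C.ρ_apply_inv, C.ρ_apply_inv]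
  · intro v hv
    -- the annihilator of the orbit is invariant under `L`
    let W : Submodule (ZMod 2) V :=
      { carrier := {v | v ∈ U ∧ ∀ p ∈ S.Ob, b (p : V) (g v) = 0}
        zero_mem' := ⟨U.zero_mem, fun p _ => by rw [map_zero, map_zero]⟩
        add_mem' := by
          rintro u v ⟨hu, hu'⟩ ⟨hv, hv'⟩
          refine ⟨U.add_mem hu hv, fun p hp => ?_⟩
          rw [map_add, map_add, hu' p hp, hv' p hp, add_zero]
        smul_mem' := by
          rintro c v ⟨hv, hv'⟩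
          refine ⟨U.smul_mem c hv, fun p hp => ?_⟩
          rw [map_smul, map_smul, hv' p hp, smul_zero] }
    have hmem : ∀ v, v ∈ W ↔ v ∈ U ∧ ∀ p ∈ S.Ob, b (p : V) (g v) = 0 := fun v => Iff.rfl
    have hLS : ∀ l ∈ L, l ∈ St S := fun l hl =>
      ⟨fun u hu => S.simple.inv l hl u hu, fun u hu => S.simple.inv _ (L.inv_mem hl) u hu,
        fun u hu => (S.g_map l hl u hu).symm⟩
    have hinv : Inv ρ L W := by
      rintro l hl v ⟨hv, hv'⟩
      have hlU := S.simple.inv l hl v hv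
      refine ⟨hlU, ?_⟩
      rintro p ⟨k, hk⟩
      have h1 := hv' ⟨ρ ((⟨l, hLS l hl⟩⁻¹ * k : ↥(St S)) : H) a, (⟨l, hLS l hl⟩⁻¹ * k : ↥(St S)).2.1 a S.a_mem⟩
        ⟨_, rfl⟩
      rw [← S.st_iso ⟨l, hLS l hl⟩ hv] at h1
      rw [← h1, ← hk]
      show b (ρ k a) (g (ρ l v)) = b (ρ l (ρ (l⁻¹ * k) a)) (g (ρ l v))
      rw [C.ρ_mul, C.ρ_apply_inv]
    rcases S.simple.min W (fun v hv => hv.1) hinv with h | h
    · have h1 : (v : V) ∈ W := ⟨v.2, hv⟩
      rw [h, Submodule.mem_bot] at h1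
      exact Subtype.ext h1
    · exfalso
      obtain ⟨v₁, hv₁, h1⟩ := S.exists_notT
      rw [← h] at hv₁
      have h2 := hv₁.2 ⟨a, S.a_mem⟩ ⟨1, C.ρ_one a⟩
      rw [h1] at h2
      exact one_ne_zero h2

include S in
/-- **the case `V = U ⊕ g U`, `|End_L(U)| = 2`, is impossible** -/
theorem false_two (hE : E2 ρ L U) : False := by
  have C := S.cfg
  obtain ⟨θ, hθ, -, hθO, -, -⟩ := (S.fam hE).main
  obtain ⟨β, hβ, hβ1, hβT⟩ := S.exists_beta hE
  have hβU : ∀ u ∈ U, ρ β u ∈ U := fun u hu => S.X_inv β hβ u hu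
  have hβg : ∀ u ∈ U, g (ρ β u) = ρ β (g u) + ρ β u := by
    intro u hu
    rw [hβ1 u hu, C.add_add_self]
  -- `β` preserves `be`
  have hβiso : ∀ u ∈ U, ∀ v ∈ U, b (ρ β u) (g (ρ β v)) = b u (g v) := by
    intro u hu v hv
    rw [hβg v hv, map_add, C.b_inv, C.b_inv, S.ti hu hv, add_zero]
  have hβd : ∀ u ∈ U, ρ β u + u = 0 ∨ ρ β u + u = a := by
    intro u hu
    apply S.perp_T (U.add_mem (hβU u hu) hu)
    intro v hv hT
    have h1 := hβiso u hu v hv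
    rw [hβT v hv hT] at h1
    rw [map_add, LinearMap.add_apply, h1]
    exact CharTwo.add_self_eq_zero _
  -- `β` is not trivial on `U`
  obtain ⟨u₁, hu₁, hu₁'⟩ : ∃ u ∈ U, ρ β u ≠ u := by
    by_contra hcon
    push Not at hcon
    have h1 := S.faith β hβ hcon
    have h2 := hβ1 a S.a_mem
    rw [h1, C.ρ_one, C.ρ_one] at h2
    exact C.a_ne (left_eq_add.1 h2)
  have hβ1' : ∀ u ∈ U, b a (g u) = 1 → ρ β u = u + a := by
    intro u hu hu1
    have h1 : b a (g u₁) = 1 := by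
      rcases zmod_two (b a (g u₁)) with h | h
      · exact absurd (hβT u₁ hu₁ h) hu₁'
      · exact h
    have h2 : ρ β u₁ = a + u₁ := by
      rcases hβd u₁ hu₁ with h | h
      · exact absurd (C.add_eq_zero.1 h) hu₁'
      · rw [← h, C.add_add_self]
    have h3 := hβT (u + u₁) (U.add_mem hu hu₁) (by rw [map_add, map_add, hu1, h1]; decide)
    rw [map_add, h2] at h3
    calc ρ β u = ρ β u + (a + u₁) + (a + u₁) := (C.add_add_self _ _).symm
      _ = u + u₁ + (a + u₁) := by rw [h3]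
      _ = u + a + u₁ + u₁ := by abel
      _ = u + a := C.add_add_self _ _
  -- a vector `v` of the orbit with `be a v = 1`
  obtain ⟨v, hv, hav⟩ : ∃ v ∈ S.Ob, b a (g (v : V)) = 1 := by
    by_contra hcon
    push Not at hcon
    apply C.a_ne
    have h1 := (S.fam hE).span ⟨a, S.a_mem⟩ (fun p hp => by
      rw [be_apply]
      show b (p : V) (g a) = 0
      rw [S.be_comm hE p.2 S.a_mem]
      rcases zmod_two (b a (g (p : V))) with h | h
      · exact h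
      · exact absurd h (hcon p hp))
    exact congrArg Subtype.val h1
  -- `v + a` is in the orbit
  have hva : v + ⟨a, S.a_mem⟩ ∈ S.Ob := by
    obtain ⟨k, hk⟩ := hv
    have hinvβ : β⁻¹ = β := C.X_inv hβ
    have hk' : β * k * β⁻¹ ∈ St S := by
      refine ⟨fun u hu => ?_, fun u hu => ?_, fun u hu => ?_⟩
      · rw [hinvβ, C.ρ_mul, C.ρ_mul]
        exact hβU _ (k.2.1 _ (hβU u hu))
      · have h1 : (β * k * β⁻¹)⁻¹ = β * (k : H)⁻¹ * β := by
          rw [mul_inv_rev, mul_inv_rev, inv_inv, hinvβ, mul_assoc]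
        rw [h1, C.ρ_mul, C.ρ_mul]
        exact hβU _ (k.2.2.1 _ (hβU u hu))
      · rw [hinvβ, C.ρ_mul, C.ρ_mul, hβ1 u hu, map_add, map_add, k.2.2.2 _ (hβU u hu),
          hβ1 _ (k.2.1 _ (hβU u hu)), C.ρ_mul, C.ρ_mul, C.add_add_self]
    refine ⟨⟨_, hk'⟩, ?_⟩
    show ρ (β * k * β⁻¹) a = v + a
    rw [hinvβ, C.ρ_mul, C.ρ_mul, C.X_a hβ, hk, hβ1' v v.2 hav]
  have hva0 := ((hθO _).1 hva).2
  have hv0 := ((hθO v).1 hv).2
  have ha0 := ((hθO ⟨a, S.a_mem⟩).1 ⟨1, C.ρ_one a⟩).2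
  rw [hθ, hv0, ha0, zero_add, zero_add, be_apply] at hva0
  change b (v : V) (g a) = 0 at hva0
  rw [S.be_comm hE v.2 S.a_mem, hav] at hva0
  exact one_ne_zero hva0

end Two

end Cfsg.Agent.Omega.EH3.Irr
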