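import Cfsg.Agent.Omega.EH3.Irr.Glue
import Cfsg.Agent.Omega.EH3.Irr.Iso
import Cfsg.Agent.Omega.EH3.Irr.Two
import Cfsg.Agent.Omega.EH3.Irr.Four
import Cfsg.Agent.Omega.EH3.Irr.EndU
import Cfsg.Agent.Omega.EH3.Irr.Shape

/-!
# THEOREM IRR of EH3 (helper807, with helper962, helper40, helper737, helper616)

In the configuration `Cfg` let `L ≠ 1` be normal in `H`, perfect, `X ∩ C_H(L) = 1`.  Then `V|L` is irreducible
(`irr`), and `End_L(V)` has order at most 4 (`shape`).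
-/

set_option autoImplicit false

namespace Cfsg.Agent.Omega.EH3.Irr

open Module Subgroup

variable {H V : Type*} [Group H] [AddCommGroup V] [Module (ZMod 2) V]
  {ρ : H →* (V ≃ₗ[ZMod 2] V)} {b : LinearMap.BilinForm (ZMod 2) V} {q : V → ZMod 2}
  {a : V} {D : Submodule (ZMod 2) V} {X : Subgroup H} {w : ℕ} {L : Subgroup H}

/-- **THEOREM IRR.** -/
theorem irr (C : Cfg ρ b q a D X w) (hL : L.Normal) (hp : ⁅L, L⁆ = L) (hne : L ≠ ⊥)
    (hX : X ⊓ centralizer (L : Set H) = ⊥) :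
    ∀ W : Submodule (ZMod 2) V, (∀ l ∈ L, ∀ v ∈ W, ρ l v ∈ W) → W = ⊥ ∨ W = ⊤ := by
  have hiso : Isotyp ρ L := fun U U' hU hU' => isotypic C hL hU hU'
  obtain ⟨U, S⟩ := exists_base C hL hp hne hX hiso
  rcases S.top_or_two hiso with h | ⟨g, T⟩
  · intro W hW
    have h1 := S.simple.min W (by rw [h]; exact le_top) hW
    rwa [h] at h1
  · exfalso
    rcases S.end_cases with h | ⟨ω, h⟩
    · exact T.false_two h
    · exact T.false_four h

end Cfsg.Agent.Omega.EH3.Irr
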