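import Cfsg.Agent.Omega.EH3.Irr.Lem
import Mathlib.RingTheory.SimpleModule.Isotypic

/-!
# THEOREM IRR of EH3: `L`-invariant subspaces as modules (helper807)

`Rg ρ L` : the subalgebra of `End V` generated by `ρ L`; `toR` : an `L`-invariant subspace as a submodule;
`simple_toR`, `inv_of`, `simple_of` : simple submodules; `equivOf` : `L`-maps as isomorphisms.
-/

set_option autoImplicit false

namespace Cfsg.Agent.Omega.EH3.Irr

open Module

variable {H V : Type*} [Group H] [AddCommGroup V] [Module (ZMod 2) V]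
  {ρ : H →* (V ≃ₗ[ZMod 2] V)} {L : Subgroup H} {U W : Submodule (ZMod 2) V} {f g : V →ₗ[ZMod 2] V}

/-- the algebra generated by `L` -/
abbrev Rg (ρ : H →* (V ≃ₗ[ZMod 2] V)) (L : Subgroup H) : Subalgebra (ZMod 2) (Module.End (ZMod 2) V) :=
  Algebra.adjoin (ZMod 2) {f | ∃ l ∈ L, f = (ρ l : V →ₗ[ZMod 2] V)}

/-- the element `l` -/
def el (ρ : H →* (V ≃ₗ[ZMod 2] V)) {L : Subgroup H} {l : H} (hl : l ∈ L) : Rg ρ L :=
  ⟨(ρ l : V →ₗ[ZMod 2] V), Algebra.subset_adjoin ⟨l, hl, rfl⟩⟩

theorem el_smul {l : H} (hl : l ∈ L) (v : V) : el ρ hl • v = ρ l v := rfl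

theorem Inv.smul (hW : Inv ρ L W) (r : Rg ρ L) : ∀ v ∈ W, r • v ∈ W := by
  obtain ⟨r, hr⟩ := r
  show ∀ v ∈ W, r v ∈ W
  induction hr using Algebra.adjoin_induction with
  | mem f hf =>
    obtain ⟨l, hl, rfl⟩ := hf
    exact hW l hl
  | algebraMap c =>
    intro v hv
    exact W.smul_mem c hv
  | add f g _ _ hf hg =>
    intro v hv
    exact W.add_mem (hf v hv) (hg v hv)
  | mul f g _ _ hf hg =>
    intro v hv
    exact hf _ (hg v hv)

/-- an `L`-invariant subspace as a submodule -/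
def toR (W : Submodule (ZMod 2) V) (hW : Inv ρ L W) : Submodule (Rg ρ L) V :=
  { W with smul_mem' := fun r v hv => hW.smul r v hv }

theorem mem_toR {hW : Inv ρ L W} {v : V} : v ∈ toR W hW ↔ v ∈ W := Iff.rfl

theorem inv_of (M : Submodule (Rg ρ L) V) : Inv ρ L (M.restrictScalars (ZMod 2)) := by
  intro l hl v hv
  exact M.smul_mem (el ρ hl) hv

theorem simple_toR (S : Simple ρ L U) : IsSimpleModule (Rg ρ L) (toR U S.inv) := by
  rw [isSimpleModule_iff_isAtom]
  refine ⟨?_, ?_⟩
  · intro h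
    apply S.ne
    rw [eq_bot_iff]
    intro v hv
    have : v ∈ toR U S.inv := hv
    rw [h] at this
    exact this
  · intro M hM
    rcases S.min (M.restrictScalars (ZMod 2)) hM.le (inv_of M) with h | h
    · rw [eq_bot_iff]
      intro v hv
      have : v ∈ M.restrictScalars (ZMod 2) := hv
      rw [h] at this
      exact this
    · exfalso
      apply hM.ne
      apply le_antisymm hM.le
      intro v hv
      have : v ∈ M.restrictScalars (ZMod 2) := by rw [h]; exact hv
      exact this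

theorem simple_of (M : Submodule (Rg ρ L) V) (hM : IsSimpleModule (Rg ρ L) M) :
    Simple ρ L (M.restrictScalars (ZMod 2)) := by
  rw [isSimpleModule_iff_isAtom] at hM
  refine ⟨inv_of M, ?_, ?_⟩
  · intro h
    apply hM.1
    rw [eq_bot_iff]
    intro v hv
    have : v ∈ M.restrictScalars (ZMod 2) := hv
    rw [h] at this
    exact this
  · intro W hW hinv
    rcases eq_or_lt_of_le (show toR W hinv ≤ M from hW) with h | h
    · right
      apply le_antisymm hW
      intro v hv
      have : v ∈ toR W hinv := by rw [h]; exact hv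
      exact this
    · left
      have h1 := hM.2 _ h
      rw [eq_bot_iff]
      intro v hv
      have : v ∈ toR W hinv := hv
      rw [h1] at this
      exact this

/-- an `L`-map on `U` commutes with the algebra -/
theorem LMap.smul (hU : Inv ρ L U) (hf : LMap ρ L U f) (r : Rg ρ L) : ∀ u ∈ U, f (r • u) = r • f u := by
  obtain ⟨r, hr⟩ := r
  show ∀ u ∈ U, f (r u) = r (f u)
  have key : ∀ s : Rg ρ L, ∀ u ∈ U, (s : Module.End (ZMod 2) V) u ∈ U := fun s => hU.smul s
  induction hr using Algebra.adjoin_induction with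
  | mem g hg =>
    obtain ⟨l, hl, rfl⟩ := hg
    exact hf l hl
  | algebraMap c =>
    intro u hu
    exact map_smul f c u
  | add g h _ _ hg hh =>
    intro u hu
    rw [LinearMap.add_apply, LinearMap.add_apply, map_add, hg u hu, hh u hu]
  | mul g h hg' hh' hg hh =>
    intro u hu
    show f (g (h u)) = g (h (f u))
    rw [hg _ (key ⟨h, hh'⟩ u hu), hh u hu]

/-- an `L`-map as a map onto its image -/
def mapOf (hU : Inv ρ L U) (hf : LMap ρ L U f) (hW : Inv ρ L W) (hfW : U.map f = W) :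
    toR U hU →ₗ[Rg ρ L] toR W hW where
  toFun u := ⟨f u.1, by rw [mem_toR, ← hfW]; exact ⟨u.1, u.2, rfl⟩⟩
  map_add' u v := Subtype.ext (map_add f u.1 v.1)
  map_smul' r u := Subtype.ext (hf.smul hU r u.1 u.2)

theorem mapOf_apply (hU : Inv ρ L U) (hf : LMap ρ L U f) (hW : Inv ρ L W) (hfW : U.map f = W)
    (u : toR U hU) : (mapOf hU hf hW hfW u : V) = f u := rfl

/-- a nonzero `L`-map on a simple submodule is an isomorphism onto its image -/
noncomputable def equivOf (S : Simple ρ L U) (hf : LMap ρ L U f) (hW : Inv ρ L W) (hfW : U.map f = W)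
    (hne : W ≠ ⊥) : toR U S.inv ≃ₗ[Rg ρ L] toR W hW :=
  LinearEquiv.ofBijective (mapOf S.inv hf hW hfW)
    (by
      constructor
      · rw [injective_iff_map_eq_zero]
        intro u hu
        by_contra h0
        apply hne
        rw [← hfW, eq_bot_iff]
        rintro _ ⟨v, hv, rfl⟩
        exact S.zero_of_zero hf u.2 (fun h => h0 (Subtype.ext h)) (congrArg Subtype.val hu) v hv
      · rintro ⟨v, hv⟩
        have hv' := hv
        rw [mem_toR, ← hfW] at hv'
        obtain ⟨u, hu, rfl⟩ := hv'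
        exact ⟨⟨u, hu⟩, rfl⟩)

/-- an `Rg`-linear map on `U` comes from an `L`-map -/
theorem exists_lmap {hU : Inv ρ L U} (φ : toR U hU →ₗ[Rg ρ L] V) :
    ∃ f : V →ₗ[ZMod 2] V, LMap ρ L U f ∧ ∀ (u : V) (hu : u ∈ U), f u = φ ⟨u, hu⟩ := by
  let φ' : U →ₗ[ZMod 2] V :=
    { toFun := fun u => φ ⟨u, u.2⟩
      map_add' := fun u v => map_add φ ⟨u, u.2⟩ ⟨v, v.2⟩
      map_smul' := fun c u => by
        have h1 := map_smul φ (algebraMap (ZMod 2) (Rg ρ L) c) ⟨u, u.2⟩
        exact h1 }
  obtain ⟨f, hf⟩ := LinearMap.exists_extend φ'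
  have hfu : ∀ (u : V) (hu : u ∈ U), f u = φ ⟨u, hu⟩ := fun u hu => LinearMap.congr_fun hf ⟨u, hu⟩
  refine ⟨f, ?_, hfu⟩
  intro l hl u hu
  have h1 : f (ρ l u) = φ (el ρ hl • ⟨u, hu⟩) := hfu _ (hU l hl u hu)
  rw [h1, map_smul, hfu u hu]
  rfl

end Cfsg.Agent.Omega.EH3.Irr
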