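import Cfsg.Agent.Omega.EH3.Cons

/-!
# THEOREM IRR of EH3: definitions (helper807)

`L` a normal perfect subgroup of `H` with `X ∩ C_H(L) = 1`; the goal is that `V|L` is irreducible.

* `Inv`, `Simple`, `LMap` : `L`-invariant subspaces, simple `L`-submodules, `L`-homomorphisms on a submodule;
* `Base` : `U ∋ a` a simple `L`-submodule, `X`-invariant, `X` faithful on `U`;
* `Two` : `V = U ⊕ g U`, `dim U = w`;
* `E2`, `E4` : `End_L(U)` has order 2, resp. 4.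
-/

set_option autoImplicit false

namespace Cfsg.Agent.Omega.EH3.Irr

open Module

variable {H V : Type*} [Group H] [AddCommGroup V] [Module (ZMod 2) V]

/-- `W` is invariant under `L` -/
def Inv (ρ : H →* (V ≃ₗ[ZMod 2] V)) (L : Subgroup H) (W : Submodule (ZMod 2) V) : Prop :=
  ∀ l ∈ L, ∀ v ∈ W, ρ l v ∈ W

/-- `U` is a simple `L`-submodule -/
structure Simple (ρ : H →* (V ≃ₗ[ZMod 2] V)) (L : Subgroup H) (U : Submodule (ZMod 2) V) : Prop where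
  inv : Inv ρ L U
  ne : U ≠ ⊥
  min : ∀ W ≤ U, Inv ρ L W → W = ⊥ ∨ W = U

/-- `f` commutes with `L` on `U` -/
def LMap (ρ : H →* (V ≃ₗ[ZMod 2] V)) (L : Subgroup H) (U : Submodule (ZMod 2) V) (f : V →ₗ[ZMod 2] V) : Prop :=
  ∀ l ∈ L, ∀ u ∈ U, f (ρ l u) = ρ l (f u)

/-- `U ∋ a` is a simple `L`-submodule, invariant under `X`, and `X` is faithful on `U` -/
structure Base (ρ : H →* (V ≃ₗ[ZMod 2] V)) (b : LinearMap.BilinForm (ZMod 2) V) (q : V → ZMod 2)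
    (a : V) (D : Submodule (ZMod 2) V) (X : Subgroup H) (w : ℕ) (L : Subgroup H) (U : Submodule (ZMod 2) V) :
    Prop where
  cfg : Cfg ρ b q a D X w
  nor : L.Normal
  perf : ⁅L, L⁆ = L
  ne_bot : L ≠ ⊥
  simple : Simple ρ L U
  a_mem : a ∈ U
  X_inv : Inv ρ X U
  faith : ∀ x ∈ X, (∀ u ∈ U, ρ x u = u) → x = 1

/-- the case `V = U ⊕ g U` -/
structure Two (ρ : H →* (V ≃ₗ[ZMod 2] V)) (b : LinearMap.BilinForm (ZMod 2) V) (q : V → ZMod 2)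
    (a : V) (D : Submodule (ZMod 2) V) (X : Subgroup H) (w : ℕ) (L : Subgroup H) (U : Submodule (ZMod 2) V)
    (g : V →ₗ[ZMod 2] V) : Prop extends Base ρ b q a D X w L U where
  g_map : LMap ρ L U g
  g_inj : ∀ u ∈ U, g u ∈ U → u = 0
  dec : ∀ v : V, ∃ u ∈ U, ∃ u' ∈ U, v = u + g u'
  card_U : Nat.card U = 2 ^ w

/-- `|End_L(U)| = 2` -/
def E2 (ρ : H →* (V ≃ₗ[ZMod 2] V)) (L : Subgroup H) (U : Submodule (ZMod 2) V) : Prop :=
  ∀ f : V →ₗ[ZMod 2] V, LMap ρ L U f → (∀ u ∈ U, f u ∈ U) → (∀ u ∈ U, f u = 0) ∨ (∀ u ∈ U, f u = u)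

/-- `End_L(U) = {0, 1, ω, ω + 1}` -/
structure E4 (ρ : H →* (V ≃ₗ[ZMod 2] V)) (L : Subgroup H) (U : Submodule (ZMod 2) V) (ω : V →ₗ[ZMod 2] V) :
    Prop where
  map : LMap ρ L U ω
  mem : ∀ u ∈ U, ω u ∈ U
  sq : ∀ u ∈ U, ω (ω u) = ω u + u
  all : ∀ f : V →ₗ[ZMod 2] V, LMap ρ L U f → (∀ u ∈ U, f u ∈ U) →
    (∀ u ∈ U, f u = 0) ∨ (∀ u ∈ U, f u = u) ∨ (∀ u ∈ U, f u = ω u) ∨ (∀ u ∈ U, f u = ω u + u)

end Cfsg.Agent.Omega.EH3.Irr
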