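import Cfsg.Agent.Omega.EH3.Irr.Alg
import Cfsg.Agent.Omega.EH3.Clif.Iso
import Cfsg.Agent.Omega.EH3.Clif.Count

/-!
# THEOREM IRR of EH3: from isotypic to `Base` and `Two` (helper807)

`exists_base` : if all simple `L`-submodules are isomorphic and `X ∩ C_H(L) = 1`, there is `Base`;
`top_or_two` : `U = V` or `Two`.
-/

set_option autoImplicit false

namespace Cfsg.Agent.Omega.EH3.Irr

open Module Subgroup

variable {H V : Type*} [Group H] [AddCommGroup V] [Module (ZMod 2) V]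
  {ρ : H →* (V ≃ₗ[ZMod 2] V)} {b : LinearMap.BilinForm (ZMod 2) V} {q : V → ZMod 2}
  {a : V} {D : Submodule (ZMod 2) V} {X : Subgroup H} {w : ℕ} {L : Subgroup H} {U W : Submodule (ZMod 2) V}
  {f g : V →ₗ[ZMod 2] V}

/-- all simple `L`-submodules are isomorphic -/
def Isotyp (ρ : H →* (V ≃ₗ[ZMod 2] V)) (L : Subgroup H) : Prop :=
  ∀ U U' : Submodule (ZMod 2) V, Simple ρ L U → Simple ρ L U' →
    ∃ f : V →ₗ[ZMod 2] V, LMap ρ L U f ∧ U.map f = U'

/-- there is a simple submodule -/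
theorem exists_simple [Finite V] [Nontrivial V] : ∃ U, Simple ρ L U := by
  obtain ⟨M, hM, -⟩ := (eq_bot_or_exists_atom_le (⊤ : Submodule (Rg ρ L) V)).resolve_left (by
    have : Nontrivial (Submodule (Rg ρ L) V) := (Submodule.nontrivial_iff (Rg ρ L)).2 inferInstance
    exact top_ne_bot)
  exact ⟨_, simple_of M (isSimpleModule_iff_isAtom.2 hM)⟩

/-- the number of simple submodules is odd -/
theorem odd_card [Finite V] [Nontrivial V] (h2 : ∀ v : V, v + v = 0) (hiso : Isotyp ρ L) :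
    Odd (Nat.card {U : Submodule (ZMod 2) V // Simple ρ L U}) := by
  obtain ⟨U, hU⟩ := exists_simple (ρ := ρ) (L := L)
  have h1 := Clif.odd_sim h2 (simple_toR hU) (le_top : _ ≤ (⊤ : Submodule (Rg ρ L) V)) (by
    intro M
    have hM := simple_of M.1 M.2.1
    obtain ⟨f, hf, hfU⟩ := hiso U _ hU hM
    exact ⟨equivOf hU hf hM.inv hfU hM.ne⟩)
  have e : Clif.Sim (⊤ : Submodule (Rg ρ L) V) ≃ {U : Submodule (ZMod 2) V // Simple ρ L U} :=
    { toFun := fun M => ⟨M.1.restrictScalars (ZMod 2), simple_of M.1 M.2.1⟩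
      invFun := fun W => ⟨toR W.1 W.2.inv, simple_toR W.2, le_top⟩
      left_inv := fun M => Subtype.ext (by ext v; exact Iff.rfl)
      right_inv := fun W => Subtype.ext (by ext v; exact Iff.rfl) }
  rw [← Nat.card_congr e]
  exact h1.1

/-- a normal subgroup element trivial on a simple submodule is trivial -/
theorem trivial_of_isotyp (C : Cfg ρ b q a D X w) (hL : L.Normal) (hiso : Isotyp ρ L) (hU : Simple ρ L U)
    {l : H} (hl : l ∈ L) (h : ∀ u ∈ U, ρ l u = u) : l = 1 := by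
  -- `l` is trivial on all simple submodules
  have h1 : ∀ W, Simple ρ L W → ∀ v ∈ W, ρ l v = v := by
    intro W hW v hv
    obtain ⟨f, hf, hfU⟩ := hiso U W hU hW
    rw [← hfU] at hv
    obtain ⟨u, hu, rfl⟩ := hv
    rw [← hf l hl u hu, h u hu]
  let M : Submodule (ZMod 2) V := ⨆ W : {W : Submodule (ZMod 2) V // Simple ρ L W}, W.1
  have hM : ∀ h, ∀ v ∈ M, ρ h v ∈ M := by
    intro h v hv
    induction hv using Submodule.iSup_induction' with
    | mem W v hv => exact Submodule.mem_iSup_of_mem ⟨_, W.2.conj hL h⟩ ⟨v, hv, rfl⟩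
    | zero => rw [map_zero]; exact M.zero_mem
    | add u v _ _ hu hv => rw [map_add]; exact M.add_mem hu hv
  apply C.ext
  intro v
  rw [C.ρ_one]
  have hv : v ∈ M := by
    rcases C.irr M hM with h2 | h2
    · exfalso
      apply hU.ne
      rw [eq_bot_iff, ← h2]
      exact le_iSup (fun W : {W : Submodule (ZMod 2) V // Simple ρ L W} => W.1) ⟨U, hU⟩
    · rw [h2]; trivial
  induction hv using Submodule.iSup_induction' with
  | mem W v hv => exact h1 W.1 W.2 v hv
  | zero => rw [map_zero]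
  | add u v _ _ hu hv => rw [map_add, hu, hv]

/-- the sum of the simple submodules is `V` -/
theorem iSup_simple (C : Cfg ρ b q a D X w) (hL : L.Normal) :
    (⨆ W : {W : Submodule (ZMod 2) V // Simple ρ L W}, W.1) = ⊤ := by
  have := C.finite_V
  have := C.nontrivial_V
  obtain ⟨U, hU⟩ := exists_simple (ρ := ρ) (L := L)
  set M : Submodule (ZMod 2) V := ⨆ W : {W : Submodule (ZMod 2) V // Simple ρ L W}, W.1 with hMdef
  have hM : ∀ h, ∀ v ∈ M, ρ h v ∈ M := by
    intro h v hv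
    induction hv using Submodule.iSup_induction' with
    | mem W v hv => exact Submodule.mem_iSup_of_mem ⟨_, W.2.conj hL h⟩ ⟨v, hv, rfl⟩
    | zero => rw [map_zero]; exact M.zero_mem
    | add u v _ _ hu hv => rw [map_add]; exact M.add_mem hu hv
  rcases C.irr M hM with h2 | h2
  · exfalso
    apply hU.ne
    rw [eq_bot_iff, ← h2]
    exact le_iSup (fun W : {W : Submodule (ZMod 2) V // Simple ρ L W} => W.1) ⟨U, hU⟩
  · exact h2

theorem exists_base (C : Cfg ρ b q a D X w) (hL : L.Normal) (hp : ⁅L, L⁆ = L) (hne : L ≠ ⊥)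
    (hX : X ⊓ centralizer (L : Set H) = ⊥) (hiso : Isotyp ρ L) : ∃ U, Base ρ b q a D X w L U := by
  classical
  have := C.finite_V
  have := C.nontrivial_V
  have hodd := odd_card C.add_self hiso
  have hmul : ∀ (g h : H) (v : V), ρ (g * h) v = ρ g (ρ h v) := C.ρ_mul
  -- `X` acts on the simple submodules
  let act : MulAction X {U : Submodule (ZMod 2) V // Simple ρ L U} :=
    { smul := fun x U => ⟨U.1.map (ρ (x : H) : V →ₗ[ZMod 2] V), U.2.conj hL x⟩
      one_smul := fun U => by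
        apply Subtype.ext
        show U.1.map (ρ ((1 : X) : H) : V →ₗ[ZMod 2] V) = U.1
        rw [Subgroup.coe_one, map_one]
        exact Submodule.map_id _
      mul_smul := fun x y U => by
        apply Subtype.ext
        show U.1.map (ρ ((x * y : X) : H) : V →ₗ[ZMod 2] V) =
          (U.1.map (ρ (y : H) : V →ₗ[ZMod 2] V)).map (ρ (x : H) : V →ₗ[ZMod 2] V)
        rw [← Submodule.map_comp, Subgroup.coe_mul, map_mul]
        rfl }
  have : Fact (Nat.Prime 2) := ⟨Nat.prime_two⟩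
  have : Finite {U : Submodule (ZMod 2) V // Simple ρ L U} := Subtype.finite
  obtain ⟨⟨U, hU⟩, hfix⟩ := C.isPGroup_X.nonempty_fixed_point_of_prime_not_dvd_card
    {U : Submodule (ZMod 2) V // Simple ρ L U} (fun h => by
      rw [← even_iff_two_dvd] at h
      exact (Nat.not_even_iff_odd.2 hodd) h)
  have hUX : Inv ρ X U := by
    intro x hx v hv
    have h1 : U.map (ρ x : V →ₗ[ZMod 2] V) = U := congrArg Subtype.val (hfix ⟨x, hx⟩)
    rw [← h1]
    exact ⟨v, hv, rfl⟩
  refine ⟨U, C, hL, hp, hne, hU, C.a_mem_of_inv hUX hU.ne, hUX, ?_⟩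
  intro x hx hfx
  have h1 : x ∈ X ⊓ centralizer (L : Set H) := by
    refine ⟨hx, mem_centralizer_iff.2 ?_⟩
    intro l hl
    have h2 : x * l * x⁻¹ * l⁻¹ ∈ L := L.mul_mem (hL.conj_mem l hl x) (L.inv_mem hl)
    have h3 : x * l * x⁻¹ * l⁻¹ = 1 := by
      apply trivial_of_isotyp C hL hiso hU h2
      intro u hu
      have h4 : ρ l⁻¹ u ∈ U := hU.inv _ (L.inv_mem hl) u hu
      have h5 : ρ x⁻¹ (ρ l⁻¹ u) = ρ l⁻¹ u := C.fix_inv (hfx _ h4)
      rw [hmul, hmul, hmul, h5, C.ρ_apply_inv, hfx u hu]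
    have h4 : x * l = l * x := by
      calc x * l = (x * l * x⁻¹ * l⁻¹) * (l * x) := by group
        _ = l * x := by rw [h3, one_mul]
    exact h4.symm
  rw [hX, Subgroup.mem_bot] at h1
  exact h1

/-- `2 ^ w ≤ |U|` -/
theorem Base.card_le (S : Base ρ b q a D X w L U) : 2 ^ w ≤ Nat.card U := by
  classical
  have := S.cfg.finite_V
  have := S.cfg.finite_H
  obtain ⟨c, hc⟩ := S.cfg.exists_off
  have hac : b c a = 1 := by rw [S.cfg.b_comm]; exact hc
  let F : X → {ψ : Module.Dual (ZMod 2) U // ψ ⟨a, S.a_mem⟩ = 1} := fun x =>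
    ⟨(b c) ∘ₗ (ρ (x : H) : V →ₗ[ZMod 2] V) ∘ₗ U.subtype, by
      show b c (ρ (x : H) a) = 1
      rw [S.cfg.X_a x.2, hac]⟩
  have hF : Function.Injective F := by
    intro x y hxy
    have h1 : ∀ u ∈ U, b c (ρ (x : H) u) = b c (ρ (y : H) u) := fun u hu =>
      LinearMap.congr_fun (congrArg Subtype.val hxy) ⟨u, hu⟩
    -- the subspace `(x + y) U`
    let W : Submodule (ZMod 2) V :=
      U.map ((ρ (x : H) : V →ₗ[ZMod 2] V) + (ρ (y : H) : V →ₗ[ZMod 2] V))
    have hW : ∀ z ∈ X, ∀ v ∈ W, ρ z v ∈ W := by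
      rintro z hz _ ⟨u, hu, rfl⟩
      refine ⟨ρ z u, S.X_inv z hz u hu, ?_⟩
      show ρ (x : H) (ρ z u) + ρ (y : H) (ρ z u) = ρ z (ρ (x : H) u + ρ (y : H) u)
      rw [map_add, ← S.cfg.ρ_mul, ← S.cfg.ρ_mul, ← S.cfg.ρ_mul, ← S.cfg.ρ_mul, S.cfg.X_comm x.2 hz,
        S.cfg.X_comm y.2 hz]
    by_cases h0 : W = ⊥
    · have h2 : ∀ u ∈ U, ρ ((x : H) * (y : H)) u = u := by
        intro u hu
        have h3 : ρ (x : H) (ρ (y : H) u) + ρ (y : H) (ρ (y : H) u) ∈ W :=
          ⟨ρ (y : H) u, S.X_inv _ y.2 u hu, rfl⟩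
        rw [h0, Submodule.mem_bot, S.cfg.add_eq_zero, ← S.cfg.ρ_mul, ← S.cfg.ρ_mul, S.cfg.X_sq _ y.2,
          S.cfg.ρ_one] at h3
        exact h3
      have h3 := S.faith _ (X.mul_mem x.2 y.2) h2
      apply Subtype.ext
      calc (x : H) = (x : H) * (y : H) * (y : H)⁻¹ := by group
        _ = (y : H) := by rw [h3, one_mul, S.cfg.X_inv y.2]
    · exfalso
      obtain ⟨u, hu, hua⟩ := S.cfg.a_mem_of_inv hW h0
      have h2 : ρ (x : H) u + ρ (y : H) u = a := hua
      have h3 : b c a = 0 := by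
        rw [← h2, map_add, h1 u hu]
        exact CharTwo.add_self_eq_zero _
      rw [hac] at h3
      exact one_ne_zero h3
  have hne : (⟨a, S.a_mem⟩ : U) ≠ 0 := fun h => S.cfg.a_ne (congrArg Subtype.val h)
  have h1 := Clif.card_dual_one (E := ZMod 2) hne
  have hfin : Finite {ψ : Module.Dual (ZMod 2) U // ψ ⟨a, S.a_mem⟩ = 1} := by
    apply Nat.finite_of_card_ne_zero
    intro h0
    rw [h0, zero_mul] at h1
    exact Nat.card_pos.ne h1
  have h2 := Nat.card_le_card_of_injective F hF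
  rw [S.cfg.card_X] at h2
  rw [← h1, Nat.card_zmod]
  calc 2 ^ w = 2 ^ (w - 1) * 2 := by
        rw [← pow_succ]
        congr 1
        have := S.cfg.five
        omega
    _ ≤ _ := Nat.mul_le_mul_right _ h2

/-- **`U = V` or `Two`** -/
theorem Base.top_or_two (S : Base ρ b q a D X w L U) (hiso : Isotyp ρ L) :
    U = ⊤ ∨ ∃ g : V →ₗ[ZMod 2] V, Two ρ b q a D X w L U g := by
  classical
  have := S.cfg.finite_V
  by_cases hU : U = ⊤
  · exact Or.inl hU
  right
  -- a simple submodule not in `U`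
  obtain ⟨U', hU', hnot⟩ : ∃ U', Simple ρ L U' ∧ ¬ U' ≤ U := by
    by_contra hcon
    push Not at hcon
    apply hU
    rw [eq_top_iff, ← iSup_simple S.cfg S.nor]
    exact iSup_le fun W => hcon W.1 W.2
  obtain ⟨g, hg, hgU⟩ := hiso U U' S.simple hU'
  have hg0 : ∀ u ∈ U, g u = 0 → u = 0 := by
    intro u hu h
    by_contra h0
    apply hU'.ne
    rw [← hgU, eq_bot_iff]
    rintro _ ⟨v, hv, rfl⟩
    exact S.simple.zero_of_zero hg hu h0 h v hv
  have hint : ∀ v ∈ U, v ∈ U' → v = 0 := by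
    intro v hv hv'
    by_contra h0
    apply hnot
    have h1 : Inv ρ L (U ⊓ U') := fun l hl t ht => ⟨S.simple.inv l hl t ht.1, hU'.inv l hl t ht.2⟩
    have h2 := hU'.eq_of_mem inf_le_right h1 (v := v) ⟨hv, hv'⟩ h0
    rw [← h2]
    exact inf_le_left
  have hginj : ∀ u ∈ U, g u ∈ U → u = 0 := fun u hu h =>
    hg0 u hu (hint _ h (by rw [← hgU]; exact ⟨u, hu, rfl⟩))
  -- counting
  let F : U × U → V := fun p => (p.1 : V) + g (p.2 : V)
  have hF : Function.Injective F := by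
    rintro ⟨u, u'⟩ ⟨v, v'⟩ h
    have h0 : (u : V) + g (u' : V) = (v : V) + g (v' : V) := h
    have h1 : g ((u' : V) - (v' : V)) = (v : V) - (u : V) := by
      rw [map_sub, sub_eq_sub_iff_add_eq_add, add_comm, h0, add_comm]
    have h2 := hginj _ (U.sub_mem u'.2 v'.2) (by rw [h1]; exact U.sub_mem v.2 u.2)
    rw [h2, map_zero] at h1
    exact Prod.ext (Subtype.ext (sub_eq_zero.1 h1.symm).symm) (Subtype.ext (sub_eq_zero.1 h2))
  have h1 := Nat.card_le_card_of_injective F hF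
  rw [Nat.card_prod, S.cfg.card_V] at h1
  have h2 := S.card_le
  have h3 : Nat.card U = 2 ^ w := by
    apply le_antisymm _ h2
    by_contra hlt
    push Not at hlt
    have h4 : 2 ^ w * 2 ^ w < Nat.card U * Nat.card U :=
      Nat.mul_lt_mul_of_lt_of_le' hlt h2 (by positivity)
    rw [two_mul, pow_add] at h1
    omega
  have hsurj : Function.Surjective F := by
    have h4 : Nat.card V ≤ Nat.card (U × U) := by
      rw [Nat.card_prod, h3, S.cfg.card_V, two_mul, pow_add]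
    exact ((Nat.bijective_iff_injective_and_card F).2
      ⟨hF, le_antisymm (Nat.card_le_card_of_injective F hF) h4⟩).2
  refine ⟨g, S, hg, hginj, ?_, h3⟩
  intro v
  obtain ⟨⟨u, u'⟩, rfl⟩ := hsurj v
  exact ⟨u, u.2, u', u'.2, rfl⟩

end Cfsg.Agent.Omega.EH3.Irr
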