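import Cfsg.Agent.Omega.EH3.Irr.Defs
import Cfsg.Agent.Omega.EH3.Clif.Act

/-!
# THEOREM IRR of EH3: halving blocks (helper962)

`Good ρ X A W e`: `A ≤ X` acts faithfully on `W`, with fixed vectors `0, e`.  `Good.half`: if `W = W₁ ⊕ W₂`, `A'` of
index two in `A` preserves `W₁, W₂`, and an element of `A - A'` exchanges them, then `(A', W₁)` is good and
`|W| = |W₁|²`.  `Good.count`: `2 |A| ≤ |W|`.  `no_quarter`: two consecutive halvings are impossible.
-/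

set_option autoImplicit false

namespace Cfsg.Agent.Omega.EH3.Irr

open Module

variable {H V : Type*} [Group H] [AddCommGroup V] [Module (ZMod 2) V]
  {ρ : H →* (V ≃ₗ[ZMod 2] V)} {b : LinearMap.BilinForm (ZMod 2) V} {q : V → ZMod 2}
  {a : V} {D : Submodule (ZMod 2) V} {X : Subgroup H} {w : ℕ}

/-- `A ≤ X` acts faithfully on `W`, and the fixed vectors are `0` and `e` -/
structure Good (ρ : H →* (V ≃ₗ[ZMod 2] V)) (X A : Subgroup H) (W : Submodule (ZMod 2) V) (e : V) : Prop where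
  le : A ≤ X
  inv : ∀ x ∈ A, ∀ v ∈ W, ρ x v ∈ W
  mem : e ∈ W
  ne : e ≠ 0
  fe : ∀ x ∈ A, ρ x e = e
  faith : ∀ x ∈ A, (∀ v ∈ W, ρ x v = v) → x = 1
  uniq : ∀ v ∈ W, (∀ x ∈ A, ρ x v = v) → v = 0 ∨ v = e

theorem Good.top (C : Cfg ρ b q a D X w) : Good ρ X X ⊤ a where
  le := le_rfl
  inv _ _ _ _ := Submodule.mem_top
  mem := Submodule.mem_top
  ne := C.a_ne
  fe _ hx := C.X_a hx
  faith x _ h := C.ext fun v => by rw [h v Submodule.mem_top, C.ρ_one]
  uniq _ _ h := C.fix_X h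

/-- the two halves of `A` with respect to `A'` and `y` -/
structure Halves (ρ : H →* (V ≃ₗ[ZMod 2] V)) (A A' : Subgroup H) (y : H) (W W₁ W₂ : Submodule (ZMod 2) V) :
    Prop where
  le : A' ≤ A
  y_mem : y ∈ A
  y_notin : y ∉ A'
  cov : ∀ x ∈ A, x ∈ A' ∨ x * y ∈ A'
  le₁ : W₁ ≤ W
  le₂ : W₂ ≤ W
  disj : ∀ v ∈ W₁, v ∈ W₂ → v = 0
  sum : ∀ v ∈ W, ∃ v₁ ∈ W₁, ∃ v₂ ∈ W₂, v₁ + v₂ = v
  inv₁ : ∀ x ∈ A', ∀ v ∈ W₁, ρ x v ∈ W₁
  inv₂ : ∀ x ∈ A', ∀ v ∈ W₂, ρ x v ∈ W₂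
  y₁ : ∀ v ∈ W₁, ρ y v ∈ W₂
  y₂ : ∀ v ∈ W₂, ρ y v ∈ W₁

theorem Halves.uniq {A A' : Subgroup H} {y : H} {W W₁ W₂ : Submodule (ZMod 2) V} (C : Cfg ρ b q a D X w)
    (h : Halves ρ A A' y W W₁ W₂) {u₁ u₂ v₁ v₂ : V} (hu1 : u₁ ∈ W₁) (hu2 : u₂ ∈ W₂) (hv1 : v₁ ∈ W₁)
    (hv2 : v₂ ∈ W₂) (e : u₁ + u₂ = v₁ + v₂) : u₁ = v₁ ∧ u₂ = v₂ := by
  have h1 : u₁ + v₁ = u₂ + v₂ := by
    have h2 : u₁ + v₁ = (u₁ + u₂) + (u₂ + v₁) := by
      have : (u₁ + u₂) + (u₂ + v₁) = u₁ + v₁ + (u₂ + u₂) := by abel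
      rw [this, C.add_self, add_zero]
    rw [h2, e]
    have : v₁ + v₂ + (u₂ + v₁) = u₂ + v₂ + (v₁ + v₁) := by abel
    rw [this, C.add_self, add_zero]
  have h2 := h.disj (u₁ + v₁) (W₁.add_mem hu1 hv1) (by rw [h1]; exact W₂.add_mem hu2 hv2)
  have h3 : u₂ + v₂ = 0 := by rw [← h1]; exact h2
  exact ⟨C.add_eq_zero.1 h2, C.add_eq_zero.1 h3⟩

theorem Halves.card {A A' : Subgroup H} {y : H} {W W₁ W₂ : Submodule (ZMod 2) V} (C : Cfg ρ b q a D X w)
    (h : Halves ρ A A' y W W₁ W₂) (hyy : y * y = 1) : Nat.card W = Nat.card W₁ ^ 2 := by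
  have hyv : ∀ v, ρ y (ρ y v) = v := fun v => by rw [← C.ρ_mul, hyy, C.ρ_one]
  let f : W₁ × W₁ → W := fun p => ⟨(p.1 : V) + ρ y p.2,
    W.add_mem (h.le₁ p.1.2) (h.le₂ (h.y₁ _ p.2.2))⟩
  have hf : Function.Bijective f := by
    constructor
    · rintro ⟨u, v⟩ ⟨u', v'⟩ e
      have e1 : (u : V) + ρ y v = u' + ρ y v' := congrArg Subtype.val e
      obtain ⟨e2, e3⟩ := h.uniq C u.2 (h.y₁ _ v.2) u'.2 (h.y₁ _ v'.2) e1
      have e4 := C.ρ_inj y e3
      rw [Subtype.ext e2, Subtype.ext e4]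
    · rintro ⟨v, hv⟩
      obtain ⟨v₁, h1, v₂, h2, rfl⟩ := h.sum v hv
      refine ⟨(⟨v₁, h1⟩, ⟨ρ y v₂, h.y₂ _ h2⟩), ?_⟩
      apply Subtype.ext
      show v₁ + ρ y (ρ y v₂) = v₁ + v₂
      rw [hyv]
  rw [← Nat.card_congr (Equiv.ofBijective f hf), Nat.card_prod, pow_two]

theorem Good.half (C : Cfg ρ b q a D X w) {A A' : Subgroup H} {y : H} {W W₁ W₂ : Submodule (ZMod 2) V}
    {e : V} (G : Good ρ X A W e) (h : Halves ρ A A' y W W₁ W₂) :
    ∃ e', Good ρ X A' W₁ e' := by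
  have hyy : y * y = 1 := C.X_sq y (G.le h.y_mem)
  have hyv : ∀ v, ρ y (ρ y v) = v := fun v => by rw [← C.ρ_mul, hyy, C.ρ_one]
  have hcomm : ∀ x ∈ A, ∀ v, ρ x (ρ y v) = ρ y (ρ x v) := fun x hx v => by
    rw [← C.ρ_mul, C.X_comm (G.le hx) (G.le h.y_mem), C.ρ_mul]
  obtain ⟨e₁, h1, e₂, h2, he⟩ := h.sum e G.mem
  have hye : ρ y e₁ = e₂ := by
    have h3 := G.fe y h.y_mem
    rw [← he, map_add, add_comm] at h3
    exact (h.uniq C (h.y₂ _ h2) (h.y₁ _ h1) h1 h2 h3).2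
  refine ⟨e₁, ⟨h.le.trans G.le, h.inv₁, h1, ?_, ?_, ?_, ?_⟩⟩
  · intro h0
    apply G.ne
    rw [← he, ← hye, h0, map_zero, add_zero]
  · intro x hx
    have h3 := G.fe x (h.le hx)
    rw [← he, map_add] at h3
    exact (h.uniq C (h.inv₁ x hx _ h1) (h.inv₂ x hx _ h2) h1 h2 h3).1
  · intro x hx hf
    apply G.faith x (h.le hx)
    intro v hv
    obtain ⟨v₁, k1, v₂, k2, rfl⟩ := h.sum v hv
    have h3 : ρ x v₂ = v₂ := by
      rw [← hyv v₂, hcomm x (h.le hx), hf _ (h.y₂ _ k2)]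
    rw [map_add, hf _ k1, h3]
  · intro v hv hf
    have hfix : ∀ x ∈ A, ρ x (v + ρ y v) = v + ρ y v := by
      intro x hx
      rcases h.cov x hx with h3 | h3
      · rw [map_add, hcomm x hx, hf x h3]
      · have h4 : ρ x v = ρ y v := by
          have h5 := hf _ h3
          rw [C.ρ_mul, hcomm x hx] at h5
          have h6 := congrArg (ρ y) h5
          rwa [hyv] at h6
        rw [map_add, hcomm x hx, h4, hyv, add_comm]
    rcases G.uniq _ (W.add_mem (h.le₁ hv) (h.le₂ (h.y₁ _ hv))) hfix with h3 | h3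
    · left
      have h4 := C.add_eq_zero.1 h3
      exact h.disj v hv (by rw [h4]; exact h.y₁ _ hv)
    · right
      rw [← he] at h3
      exact (h.uniq C hv (h.y₁ _ hv) h1 h2 h3).1

/-- the counting lemma -/
theorem Good.count (C : Cfg ρ b q a D X w) {A : Subgroup H} {W : Submodule (ZMod 2) V} {e : V}
    (G : Good ρ X A W e) : Nat.card A * 2 ≤ Nat.card W := by
  have hVf := C.finite_V
  have hHf := C.finite_H
  let β : Clif.Act A W := Clif.Act.of
    (fun x =>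
      { toFun := fun v => ⟨ρ (x : H) v, G.inv x x.2 v v.2⟩
        map_zero' := Subtype.ext (map_zero (ρ (x : H)))
        map_add' := fun u v => Subtype.ext (map_add (ρ (x : H)) _ _) })
    (fun v => Subtype.ext (C.ρ_one _))
    (fun x y v => Subtype.ext (C.ρ_mul _ _ _))
  have hβ : ∀ (x : A) (v : W), ((β x v : W) : V) = ρ (x : H) v := fun _ _ => rfl
  have h1 := Clif.count_one (V := W) (B := A) (fun v => Subtype.ext (C.add_self (v : V)))
    (fun x => ⟨1, Subtype.ext (by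
      show (x : H) ^ (2 ^ 1) = 1
      rw [pow_one, pow_two]; exact C.X_sq x (G.le x.2))⟩)
    (fun x y => Subtype.ext (C.X_comm (G.le x.2) (G.le y.2))) β (e := ⟨e, G.mem⟩)
    (fun h => G.ne (congrArg Subtype.val h)) (fun x => Subtype.ext (G.fe x x.2))
    (by
      intro v hv
      rcases G.uniq v v.2 (fun x hx => congrArg Subtype.val (hv ⟨x, hx⟩)) with h | h
      · exact Or.inl (Subtype.ext h)
      · exact Or.inr (Subtype.ext h))
  have h2 : Nat.card {x : A // ∀ v, β x v = v} = 1 := by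
    rw [Nat.card_eq_one_iff_unique]
    refine ⟨⟨?_⟩, ⟨⟨1, fun v => Subtype.ext (C.ρ_one _)⟩⟩⟩
    rintro ⟨x, hx⟩ ⟨y, hy⟩
    have hx1 := G.faith x x.2 fun v hv => congrArg Subtype.val (hx ⟨v, hv⟩)
    have hy1 := G.faith y y.2 fun v hv => congrArg Subtype.val (hy ⟨v, hv⟩)
    apply Subtype.ext
    apply Subtype.ext
    show (x : H) = y
    rw [hx1, hy1]
  rw [h2, one_mul] at h1
  exact h1

/-- the order of `A'` -/
theorem Halves.card_A {A A' : Subgroup H} {y : H} {W W₁ W₂ : Submodule (ZMod 2) V} [Finite H]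
    (h : Halves ρ A A' y W W₁ W₂) (hyy : y * y = 1) : Nat.card A = Nat.card A' * 2 := by
  let f : A' × Bool → A := fun p => ⟨(p.1 : H) * (if p.2 then y else 1), by
    refine A.mul_mem (h.le p.1.2) ?_
    split
    · exact h.y_mem
    · exact A.one_mem⟩
  have hf : Function.Bijective f := by
    constructor
    · rintro ⟨x, s⟩ ⟨x', s'⟩ e
      have e1 : (x : H) * (if s then y else 1) = x' * (if s' then y else 1) := congrArg Subtype.val e
      cases s <;> cases s' <;> simp only [if_true, Bool.false_eq_true, if_false, mul_one] at e1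
      · rw [Subtype.ext e1]
      · exfalso
        apply h.y_notin
        have : y = (x' : H)⁻¹ * x := by rw [e1]; group
        rw [this]
        exact A'.mul_mem (A'.inv_mem x'.2) x.2
      · exfalso
        apply h.y_notin
        have : y = (x : H)⁻¹ * x' := by rw [← e1]; group
        rw [this]
        exact A'.mul_mem (A'.inv_mem x.2) x'.2
      · rw [Subtype.ext (mul_right_cancel e1)]
    · rintro ⟨x, hx⟩
      rcases h.cov x hx with h1 | h1
      · exact ⟨(⟨x, h1⟩, false), Subtype.ext (mul_one x)⟩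
      · refine ⟨(⟨x * y, h1⟩, true), Subtype.ext ?_⟩
        show x * y * y = x
        rw [mul_assoc, hyy, mul_one]
  rw [← Nat.card_congr (Equiv.ofBijective f hf), Nat.card_prod, Nat.card_eq_fintype_card (α := Bool),
    Fintype.card_bool]

/-- two consecutive halvings are impossible -/
theorem no_quarter (C : Cfg ρ b q a D X w) {A A' : Subgroup H} {y y' : H}
    {W₁ W₂ W₁' W₂' : Submodule (ZMod 2) V} (h : Halves ρ X A y ⊤ W₁ W₂) (h' : Halves ρ A A' y' W₁ W₁' W₂') :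
    False := by
  have hVf := C.finite_V
  have hHf := C.finite_H
  obtain ⟨e, G⟩ := (Good.top C).half C h
  obtain ⟨e', G'⟩ := G.half C h'
  have hyy := C.X_sq y h.y_mem
  have hyy' := C.X_sq y' (G.le h'.y_mem)
  have c1 := h.card C hyy
  have c2 := h'.card C hyy'
  have d1 := h.card_A hyy
  have d2 := h'.card_A hyy'
  have k := G'.count C
  have ht : Nat.card (⊤ : Submodule (ZMod 2) V) = 2 ^ (2 * w) := by
    rw [← C.card_V]
    exact Nat.card_congr (Equiv.Set.univ V)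
  rw [ht] at c1
  rw [C.card_X] at d1
  have h5 := C.five
  obtain ⟨n, rfl⟩ : ∃ n, w = n + 5 := ⟨w - 5, by omega⟩
  -- `|A'| = 2^(n+2)`
  have d3 : Nat.card A' = 2 ^ (n + 2) := by
    have : 2 ^ (n + 5 - 1) = Nat.card A' * 2 * 2 := by rw [← d2, ← d1]
    have e : n + 5 - 1 = n + 2 + 1 + 1 := by omega
    rw [e, pow_succ, pow_succ] at this
    omega
  have c3 : Nat.card W₁' ^ 4 = 2 ^ (2 * (n + 5)) := by
    rw [c1, c2]; ring
  have k2 : (2 ^ (n + 3)) ^ 4 ≤ Nat.card W₁' ^ 4 := by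
    apply Nat.pow_le_pow_left
    calc 2 ^ (n + 3) = Nat.card A' * 2 := by rw [d3, pow_succ]
      _ ≤ _ := k
  rw [c3, ← pow_mul] at k2
  have := (Nat.pow_le_pow_iff_right (by norm_num : 1 < 2)).1 k2
  omega

end Cfsg.Agent.Omega.EH3.Irr
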