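import Cfsg.Agent.Omega.EH3.Irr.Defs

/-!
# THEOREM IRR of EH3: common lemmas (helper807)
-/

set_option autoImplicit false

namespace Cfsg.Agent.Omega.EH3.Irr

open Module

variable {H V : Type*} [Group H] [AddCommGroup V] [Module (ZMod 2) V]
  {ρ : H →* (V ≃ₗ[ZMod 2] V)} {b : LinearMap.BilinForm (ZMod 2) V} {q : V → ZMod 2}
  {a : V} {D : Submodule (ZMod 2) V} {X : Subgroup H} {w : ℕ} {L : Subgroup H} {U W : Submodule (ZMod 2) V}
  {f g : V →ₗ[ZMod 2] V}

/-! ### simple submodules and maps -/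

theorem Simple.eq_of_mem (S : Simple ρ L U) (hle : W ≤ U) (hinv : Inv ρ L W) {v : V} (hv : v ∈ W)
    (h0 : v ≠ 0) : W = U := by
  rcases S.min W hle hinv with h | h
  · rw [h, Submodule.mem_bot] at hv
    exact absurd hv h0
  · exact h

theorem Simple.zero_of_zero (S : Simple ρ L U) (hf : LMap ρ L U f) {u₀ : V} (hu₀ : u₀ ∈ U) (h0 : u₀ ≠ 0)
    (hfu : f u₀ = 0) : ∀ u ∈ U, f u = 0 := by
  have h1 : U ⊓ LinearMap.ker f = U := by
    apply S.eq_of_mem inf_le_left _ (v := u₀) ⟨hu₀, hfu⟩ h0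
    rintro l hl v ⟨hv1, hv2⟩
    refine ⟨S.inv l hl v hv1, ?_⟩
    rw [SetLike.mem_coe, LinearMap.mem_ker] at hv2 ⊢
    rw [hf l hl v hv1, hv2, map_zero]
  intro u hu
  rw [← h1] at hu
  exact hu.2

theorem Simple.eq_of_eq (S : Simple ρ L U) (hf : LMap ρ L U f) (hg : LMap ρ L U g) {u₀ : V} (hu₀ : u₀ ∈ U)
    (h0 : u₀ ≠ 0) (hfg : f u₀ = g u₀) : ∀ u ∈ U, f u = g u := by
  have h1 : LMap ρ L U (f - g) := by
    intro l hl u hu
    rw [LinearMap.sub_apply, LinearMap.sub_apply, hf l hl u hu, hg l hl u hu, map_sub]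
  intro u hu
  have := S.zero_of_zero h1 hu₀ h0 (by rw [LinearMap.sub_apply, hfg, sub_self]) u hu
  rwa [LinearMap.sub_apply, sub_eq_zero] at this

theorem LMap.id : LMap ρ L U LinearMap.id := fun _ _ _ _ => rfl

theorem LMap.add (hf : LMap ρ L U f) (hg : LMap ρ L U g) : LMap ρ L U (f + g) := by
  intro l hl u hu
  rw [LinearMap.add_apply, LinearMap.add_apply, hf l hl u hu, hg l hl u hu, map_add]

theorem LMap.comp (hf : LMap ρ L U f) (hg : LMap ρ L U g) (hU : ∀ u ∈ U, g u ∈ U) :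
    LMap ρ L U (f ∘ₗ g) := by
  intro l hl u hu
  rw [LinearMap.comp_apply, LinearMap.comp_apply, hg l hl u hu, hf l hl _ (hU u hu)]

/-- the image of a simple submodule -/
theorem Simple.map (S : Simple ρ L U) (hf : LMap ρ L U f) (hf0 : ∃ u ∈ U, f u ≠ 0) :
    Simple ρ L (U.map f) := by
  refine ⟨?_, ?_, ?_⟩
  · rintro l hl _ ⟨u, hu, rfl⟩
    exact ⟨ρ l u, S.inv l hl u hu, hf l hl u hu⟩
  · obtain ⟨u, hu, h0⟩ := hf0
    intro h
    apply h0
    have : f u ∈ U.map f := ⟨u, hu, rfl⟩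
    rwa [h, Submodule.mem_bot] at this
  · intro W hW hinv
    have h1 : Inv ρ L (U ⊓ W.comap f) := by
      rintro l hl v ⟨hv1, hv2⟩
      refine ⟨S.inv l hl v hv1, ?_⟩
      rw [SetLike.mem_coe, Submodule.mem_comap] at hv2 ⊢
      rw [hf l hl v hv1]
      exact hinv l hl _ hv2
    rcases S.min _ inf_le_left h1 with h | h
    · left
      rw [eq_bot_iff]
      intro v hv
      obtain ⟨u, hu, rfl⟩ := hW hv
      have h2 : u ∈ U ⊓ W.comap f := ⟨hu, hv⟩
      rw [h, Submodule.mem_bot] at h2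
      rw [h2, map_zero]
      exact Submodule.zero_mem _
    · right
      apply le_antisymm hW
      rintro _ ⟨u, hu, rfl⟩
      have hu' : u ∈ U ⊓ W.comap f := by rw [h]; exact hu
      exact hu'.2

/-- the conjugate of a simple submodule -/
theorem Simple.conj (S : Simple ρ L U) (hL : L.Normal) (h : H) :
    Simple ρ L (U.map (ρ h : V →ₗ[ZMod 2] V)) := by
  have hmul : ∀ (g h : H) (v : V), ρ (g * h) v = ρ g (ρ h v) := fun g h v => by rw [map_mul]; rfl
  have hsymm : ∀ v : V, ρ h (ρ h⁻¹ v) = v := fun v => by rw [← hmul, mul_inv_cancel, map_one]; rfl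
  have hsymm' : ∀ v : V, ρ h⁻¹ (ρ h v) = v := fun v => by rw [← hmul, inv_mul_cancel, map_one]; rfl
  refine ⟨?_, ?_, ?_⟩
  · rintro l hl _ ⟨u, hu, rfl⟩
    refine ⟨ρ (h⁻¹ * l * h) u, S.inv _ (by
      have := hL.conj_mem l hl h⁻¹
      rwa [inv_inv] at this) u hu, ?_⟩
    show ρ h (ρ (h⁻¹ * l * h) u) = ρ l (ρ h u)
    rw [← hmul, ← hmul]
    congr 2
    group
  · intro h0
    apply S.ne
    rw [eq_bot_iff]
    intro u hu
    have h1 : ρ h u ∈ U.map (ρ h : V →ₗ[ZMod 2] V) := ⟨u, hu, rfl⟩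
    rw [h0, Submodule.mem_bot] at h1
    rw [Submodule.mem_bot, ← hsymm' u, h1, map_zero]
  · intro W hW hinv
    have h1 : Inv ρ L (W.map (ρ h⁻¹ : V →ₗ[ZMod 2] V)) := by
      rintro l hl _ ⟨v, hv, rfl⟩
      refine ⟨ρ (h * l * h⁻¹) v, hinv _ (hL.conj_mem l hl h) v hv, ?_⟩
      show ρ h⁻¹ (ρ (h * l * h⁻¹) v) = ρ l (ρ h⁻¹ v)
      rw [← hmul, ← hmul]
      congr 2
      group
    have h2 : W.map (ρ h⁻¹ : V →ₗ[ZMod 2] V) ≤ U := by
      rintro _ ⟨v, hv, rfl⟩
      obtain ⟨u, hu, rfl⟩ := hW hv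
      show ρ h⁻¹ (ρ h u) ∈ U
      rw [hsymm']
      exact hu
    rcases S.min _ h2 h1 with h3 | h3
    · left
      rw [eq_bot_iff]
      intro v hv
      have h4 : ρ h⁻¹ v ∈ W.map (ρ h⁻¹ : V →ₗ[ZMod 2] V) := ⟨v, hv, rfl⟩
      rw [h3, Submodule.mem_bot] at h4
      rw [Submodule.mem_bot, ← hsymm v, h4, map_zero]
    · right
      apply le_antisymm hW
      rintro _ ⟨u, hu, rfl⟩
      rw [← h3] at hu
      obtain ⟨v, hv, rfl⟩ := hu
      show ρ h (ρ h⁻¹ v) ∈ W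
      rw [hsymm]
      exact hv

/-! ### conjugation of maps -/

/-- `h f h⁻¹` -/
def cj (ρ : H →* (V ≃ₗ[ZMod 2] V)) (h : H) (f : V →ₗ[ZMod 2] V) : V →ₗ[ZMod 2] V :=
  (ρ h : V →ₗ[ZMod 2] V) ∘ₗ f ∘ₗ (ρ h⁻¹ : V →ₗ[ZMod 2] V)

theorem cj_apply (h : H) (f : V →ₗ[ZMod 2] V) (v : V) : cj ρ h f v = ρ h (f (ρ h⁻¹ v)) := rfl

theorem LMap.cj (hL : L.Normal) (hf : LMap ρ L U f) {h : H} (hU : ∀ u ∈ U, ρ h⁻¹ u ∈ U) :
    LMap ρ L U (cj ρ h f) := by
  have hmul : ∀ (g h : H) (v : V), ρ (g * h) v = ρ g (ρ h v) := fun g h v => by rw [map_mul]; rfl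
  intro l hl u hu
  rw [cj_apply, cj_apply]
  have h1 : ρ h⁻¹ (ρ l u) = ρ (h⁻¹ * l * h) (ρ h⁻¹ u) := by
    rw [← hmul, ← hmul]; congr 2; group
  have h2 : h⁻¹ * l * h ∈ L := by
    have := hL.conj_mem l hl h⁻¹
    rwa [inv_inv] at this
  rw [h1, hf _ h2 _ (hU u hu), ← hmul, ← hmul]
  congr 2
  group

/-! ### the situation `Base` -/

namespace Base

variable (S : Base ρ b q a D X w L U)

include S

theorem finite_V : Finite V := S.cfg.finite_V

theorem mulρ (g h : H) (v : V) : ρ (g * h) v = ρ g (ρ h v) := S.cfg.ρ_mul g h v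

theorem xx {x : H} (hx : x ∈ X) (v : V) : ρ x (ρ x v) = v := by
  rw [← S.cfg.ρ_mul, S.cfg.X_sq x hx, S.cfg.ρ_one]

/-- a nonzero `L`-map fixing the situation is determined by the image of `a` -/
theorem eq_of_a (hf : LMap ρ L U f) (hg : LMap ρ L U g) (h : f a = g a) : ∀ u ∈ U, f u = g u :=
  S.simple.eq_of_eq hf hg S.a_mem S.cfg.a_ne h

/-- conjugation by `x ∈ X` -/
theorem cj_map (hf : LMap ρ L U f) {x : H} (hx : x ∈ X) : LMap ρ L U (cj ρ x f) :=
  hf.cj S.nor fun u hu => S.X_inv _ (X.inv_mem hx) u hu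

theorem cj_a {x : H} (hx : x ∈ X) (f : V →ₗ[ZMod 2] V) : cj ρ x f a = ρ x (f a) := by
  rw [cj_apply, S.cfg.X_a (X.inv_mem hx)]

/-- an `L`-map `f` on `U` commuting with `X` is `0` or the identity -/
theorem zero_or_id (hf : LMap ρ L U f) (h : ∀ x ∈ X, ρ x (f a) = f a) :
    (∀ u ∈ U, f u = 0) ∨ (∀ u ∈ U, f u = u) := by
  rcases S.cfg.fix_X h with h1 | h1
  · exact Or.inl (S.simple.zero_of_zero hf S.a_mem S.cfg.a_ne h1)
  · exact Or.inr (S.eq_of_a hf LMap.id h1)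

/-- `U` is totally isotropic, if it is perpendicular to `a` -/
theorem ti (h : ∀ u ∈ U, b a u = 0) : ∀ u ∈ U, ∀ v ∈ U, b u v = 0 := by
  have h1 : U ⊓ b.orthogonal U = U := by
    apply S.simple.eq_of_mem inf_le_left _ (v := a) ⟨S.a_mem, ?_⟩ S.cfg.a_ne
    · rintro l hl v ⟨hv1, hv2⟩
      refine ⟨S.simple.inv l hl v hv1, ?_⟩
      rw [SetLike.mem_coe, S.cfg.mem_perp] at hv2 ⊢
      intro u hu
      have h2 := hv2 (ρ l⁻¹ u) (S.simple.inv _ (L.inv_mem hl) u hu)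
      rw [← S.cfg.b_inv l, S.cfg.ρ_apply_inv] at h2
      exact h2
    · rw [SetLike.mem_coe, S.cfg.mem_perp]
      intro u hu
      rw [S.cfg.b_comm]
      exact h u hu
  intro u hu v hv
  rw [← h1] at hv
  exact (S.cfg.mem_perp U).1 hv.2 u hu

/-- the quadratic form vanishes on a totally isotropic simple `L`-submodule of order at least 4 -/
theorem q_zero {W : Submodule (ZMod 2) V} (hW : Simple ρ L W) (ht : ∀ u ∈ W, ∀ v ∈ W, b u v = 0)
    (hc : 2 < Nat.card W) : ∀ v ∈ W, q v = 0 := by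
  have := S.cfg.finite_V
  let W' : Submodule (ZMod 2) V :=
    { carrier := {v | v ∈ W ∧ q v = 0}
      zero_mem' := ⟨W.zero_mem, S.cfg.q_zero⟩
      add_mem' := by
        rintro u v ⟨hu, hu'⟩ ⟨hv, hv'⟩
        refine ⟨W.add_mem hu hv, ?_⟩
        rw [S.cfg.q_add, hu', hv', ht u hu v hv]
        rfl
      smul_mem' := by
        rintro c v ⟨hv, hv'⟩
        refine ⟨W.smul_mem c hv, ?_⟩
        rcases zmod_two c with h | h
        · rw [h, zero_smul, S.cfg.q_zero]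
        · rw [h, one_smul]; exact hv' }
  have hmem : ∀ v, v ∈ W' ↔ v ∈ W ∧ q v = 0 := fun v => Iff.rfl
  have hinv : Inv ρ L W' := by
    rintro l hl v ⟨hv, hv'⟩
    exact ⟨hW.inv l hl v hv, by rw [S.cfg.q_inv]; exact hv'⟩
  rcases hW.min W' (fun v hv => hv.1) hinv with h | h
  · exfalso
    -- `W` has at most two elements
    have h1 : ∀ u ∈ W, ∀ v ∈ W, u ≠ 0 → v ≠ 0 → u = v := by
      intro u hu v hv hu0 hv0
      have h2 : ∀ t ∈ W, t ≠ 0 → q t = 1 := by
        intro t ht' ht0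
        apply zmod_two_ne
        intro h3
        apply ht0
        have : t ∈ W' := ⟨ht', h3⟩
        rwa [h, Submodule.mem_bot] at this
      have h3 : u + v ∈ W' := by
        refine ⟨W.add_mem hu hv, ?_⟩
        rw [S.cfg.q_add, h2 u hu hu0, h2 v hv hv0, ht u hu v hv]
        decide
      rw [h, Submodule.mem_bot, S.cfg.add_eq_zero] at h3
      exact h3
    obtain ⟨u, hu, hu0⟩ := Submodule.exists_mem_ne_zero_of_ne_bot hW.ne
    have h2 : Nat.card W ≤ Nat.card (Fin 2) := by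
      classical
      refine Nat.card_le_card_of_injective (fun v : W => if (v : V) = 0 then (0 : Fin 2) else 1) ?_
      intro v v' hvv
      apply Subtype.ext
      by_cases h3 : (v : V) = 0
      · by_cases h4 : (v' : V) = 0
        · rw [h3, h4]
        · simp only [h3, h4, if_true, if_false] at hvv
          exact absurd hvv (by decide)
      · by_cases h4 : (v' : V) = 0
        · simp only [h3, h4, if_true, if_false] at hvv
          exact absurd hvv (by decide)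
        · exact h1 v v.2 v' v'.2 h3 h4
    rw [Nat.card_eq_fintype_card (α := Fin 2), Fintype.card_fin] at h2
    omega
  · intro v hv
    rw [← h] at hv
    exact hv.2

end Base

/-! ### the situation `Two` -/

namespace Two

variable (S : Two ρ b q a D X w L U g)

include S

theorem ne_top : U ≠ ⊤ := by
  intro h
  apply S.cfg.a_ne
  exact S.g_inj a S.a_mem (by rw [h]; trivial)

theorem card_gt : 16 < Nat.card U := by
  rw [S.card_U]
  calc 16 < 2 ^ 5 := by norm_num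
    _ ≤ 2 ^ w := Nat.pow_le_pow_right (by norm_num) S.cfg.five

theorem b_a {u : V} (hu : u ∈ U) : b a u = 0 := by
  by_contra h
  exact S.ne_top (S.cfg.eq_top_of_off S.X_inv (zmod_two_ne h) hu)

/-- `U` is totally isotropic -/
theorem ti {u v : V} (hu : u ∈ U) (hv : v ∈ U) : b u v = 0 :=
  S.toBase.ti (fun _ h => S.b_a h) u hu v hv

theorem q_U {u : V} (hu : u ∈ U) : q u = 0 :=
  S.toBase.q_zero S.simple (fun _ h _ h' => S.ti h h') (by have := S.card_gt; omega) u hu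

/-- the decomposition is unique -/
theorem uniq {u u' v v' : V} (hu : u ∈ U) (hu' : u' ∈ U) (hv : v ∈ U) (hv' : v' ∈ U)
    (h : u + g u' = v + g v') : u = v ∧ u' = v' := by
  have h1 : g (u' - v') = v - u := by
    rw [map_sub]
    rw [sub_eq_sub_iff_add_eq_add, add_comm, h, add_comm]
  have h2 := S.g_inj (u' - v') (U.sub_mem hu' hv') (by rw [h1]; exact U.sub_mem hv hu)
  rw [h2, map_zero] at h1
  exact ⟨(sub_eq_zero.1 h1.symm).symm, sub_eq_zero.1 h2⟩

/-- the projections -/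
theorem exists_proj : ∃ p r : V →ₗ[ZMod 2] V, (∀ v, p v ∈ U) ∧ (∀ v, r v ∈ U) ∧ (∀ v, v = p v + g (r v)) ∧
    (∀ l ∈ L, ∀ v, p (ρ l v) = ρ l (p v)) ∧ (∀ l ∈ L, ∀ v, r (ρ l v) = ρ l (r v)) := by
  choose P hP R hR hPR using S.dec
  have hadd : ∀ u v, P (u + v) = P u + P v ∧ R (u + v) = R u + R v := by
    intro u v
    apply S.uniq (hP _) (hR _) (U.add_mem (hP _) (hP _)) (U.add_mem (hR _) (hR _))
    rw [← hPR, map_add]
    calc u + v = (P u + g (R u)) + (P v + g (R v)) := by rw [← hPR, ← hPR]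
      _ = _ := by abel
  have hsmul : ∀ (c : ZMod 2) v, P (c • v) = c • P v ∧ R (c • v) = c • R v := by
    intro c v
    apply S.uniq (hP _) (hR _) (U.smul_mem c (hP _)) (U.smul_mem c (hR _))
    rw [← hPR, map_smul, ← smul_add, ← hPR]
  refine ⟨⟨⟨P, fun u v => (hadd u v).1⟩, fun c v => (hsmul c v).1⟩,
    ⟨⟨R, fun u v => (hadd u v).2⟩, fun c v => (hsmul c v).2⟩, hP, hR, hPR, ?_, ?_⟩
  all_goals
    intro l hl v
    have h := S.uniq (hP (ρ l v)) (hR (ρ l v)) (S.simple.inv l hl _ (hP v)) (S.simple.inv l hl _ (hR v)) (by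
      rw [← hPR, S.g_map l hl _ (hR v), ← map_add, ← hPR])
  · exact h.1
  · exact h.2

/-- every `L`-map on `U` is `e + g e'` with `e`, `e'` endomorphisms of `U` -/
theorem exists_dec {f : V →ₗ[ZMod 2] V} (hf : LMap ρ L U f) : ∃ e e' : V →ₗ[ZMod 2] V,
    LMap ρ L U e ∧ LMap ρ L U e' ∧ (∀ u ∈ U, e u ∈ U) ∧ (∀ u ∈ U, e' u ∈ U) ∧
    ∀ u, f u = e u + g (e' u) := by
  obtain ⟨p, r, hp, hr, hpr, hpl, hrl⟩ := S.exists_proj
  refine ⟨p ∘ₗ f, r ∘ₗ f, ?_, ?_, fun u _ => hp _, fun u _ => hr _, fun u => hpr _⟩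
  · intro l hl u hu
    rw [LinearMap.comp_apply, LinearMap.comp_apply, hf l hl u hu, hpl l hl]
  · intro l hl u hu
    rw [LinearMap.comp_apply, LinearMap.comp_apply, hf l hl u hu, hrl l hl]

/-- the pairing `(u, v) ↦ b u (g v)` on `U` is nondegenerate -/
theorem nondeg_left {u : V} (hu : u ∈ U) (h : ∀ v ∈ U, b u (g v) = 0) : u = 0 := by
  apply S.cfg.nondeg
  intro v
  obtain ⟨v₁, h1, v₂, h2, rfl⟩ := S.dec v
  rw [map_add, S.ti hu h1, h v₂ h2, add_zero]

theorem nondeg_right {v : V} (hv : v ∈ U) (h : ∀ u ∈ U, b u (g v) = 0) : v = 0 := by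
  -- `U^⊥ = U`
  have h1 : U ⊔ Submodule.span (ZMod 2) {g v} ≤ b.orthogonal U := by
    rw [sup_le_iff, Submodule.span_singleton_le_iff_mem]
    refine ⟨fun u hu => ?_, ?_⟩
    · rw [S.cfg.mem_perp]; exact fun t ht => S.ti ht hu
    · rw [S.cfg.mem_perp]; exact h
  have := S.cfg.finite_V
  have h2 := S.cfg.card_perp U
  have hV := S.cfg.card_V
  have h3 : Nat.card (b.orthogonal U) = Nat.card U := by
    rw [S.card_U] at h2 ⊢
    rw [hV, two_mul, pow_add] at h2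
    exact Nat.eq_of_mul_eq_mul_left (by positivity) h2
  have h4 : U = b.orthogonal U := by
    apply SetLike.coe_injective
    apply Set.eq_of_subset_of_ncard_le
    · exact fun u hu => h1 (Submodule.mem_sup_left hu)
    · rw [← Nat.card_coe_set_eq, ← Nat.card_coe_set_eq]
      exact h3.le
    · exact Set.toFinite _
  apply S.g_inj v hv
  rw [h4]
  exact h1 (Submodule.mem_sup_right (Submodule.mem_span_singleton_self _))

/-- invariance of the pairing -/
theorem pair_inv {l : H} (hl : l ∈ L) {u v : V} (hv : v ∈ U) :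
    b (ρ l u) (g (ρ l v)) = b u (g v) := by
  rw [S.g_map l hl v hv, S.cfg.b_inv]

end Two

end Cfsg.Agent.Omega.EH3.Irr
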